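import Cfsg.Agent.Lib.AschUList.Main

/-!
# Frames of the four-dimensional unitary space over nine elements
-/

set_option autoImplicit false

namespace CfsgLib.AschUList

open Matrix CfsgLib.Transvec CfsgLib.Transvec.Unitary CfsgLib.Techniques.AschPrime CfsgLib.Techniques.AschPrimeU
open scoped MatrixGroups

namespace FourLines

variable {F : Type*} [Field F]

/-- The characters of the four-group, as a table. -/
def chi : Fin 4 → Fin 4 → ℤ := ![![1, 1, 1, 1], ![1, -1, 1, -1], ![1, 1, -1, -1], ![1, -1, -1, 1]]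

/-- The translations of the four-group. -/
def tau : Fin 4 → Equiv.Perm (Fin 4) :=
  ![1, Equiv.swap 0 1 * Equiv.swap 2 3, Equiv.swap 0 2 * Equiv.swap 1 3, Equiv.swap 0 3 * Equiv.swap 1 2]

/-- The signs as units. -/
def chiU (F : Type*) [Field F] (a : Fin 4) : Fin 4 → Fˣ := fun j => if chi a j = 1 then 1 else -1

theorem chiU_val (a j : Fin 4) : (chiU F a j : F) = (chi a j : F) := by
  fin_cases a <;> fin_cases j <;> simp [chiU, chi]

/-- A monomial matrix. -/
def mono (π : Equiv.Perm (Fin 4)) (d : Fin 4 → Fˣ) : GL (Fin 4) F where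
  val := Matrix.of fun i j => if π.symm i = j then (d i : F) else 0
  inv := Matrix.of fun i j => if π i = j then (((d (π i))⁻¹ : Fˣ) : F) else 0
  val_inv := by
    ext i j
    rw [Matrix.mul_apply, Finset.sum_eq_single (π.symm i) (fun b _ hb => by simp [Ne.symm hb]) (by simp)]
    by_cases h : i = j <;> simp [h, Matrix.one_apply]
  inv_val := by
    ext i j
    rw [Matrix.mul_apply, Finset.sum_eq_single (π i) (fun b _ hb => by simp [Ne.symm hb]) (by simp)]
    by_cases h : i = j <;> simp [h, Matrix.one_apply]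

theorem mono_apply (π : Equiv.Perm (Fin 4)) (d : Fin 4 → Fˣ) (i j : Fin 4) :
    (mono π d : Matrix (Fin 4) (Fin 4) F) i j = if π.symm i = j then (d i : F) else 0 := rfl

theorem mono_mul (π ρ : Equiv.Perm (Fin 4)) (d e : Fin 4 → Fˣ) :
    mono π d * mono ρ e = mono (π * ρ) (fun i => d i * e (π.symm i)) := by
  refine Units.ext (Matrix.ext fun i j => ?_)
  rw [Units.val_mul, Matrix.mul_apply,
    Finset.sum_eq_single (π.symm i) (fun b _ hb => by simp [mono_apply, Ne.symm hb]) (by simp)]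
  simp only [mono_apply, if_true, Equiv.Perm.mul_def, Equiv.symm_trans_apply, Units.val_mul, mul_ite, mul_zero]
  rfl

theorem mono_one : mono (F := F) 1 (fun _ => 1) = 1 := by
  refine Units.ext (Matrix.ext fun i j => ?_)
  simp [mono_apply, Matrix.one_apply, Equiv.Perm.one_symm]
  rfl

theorem mono_scalar (c : Fˣ) : mono (F := F) 1 (fun _ => c) ∈ Cfsg.Geo.scalars (Fin 4) F :=
  (Cfsg.Geo.mem_scalars_iff _).2 ⟨c, Matrix.ext fun i j => by
    simp [mono_apply, Matrix.one_apply, Equiv.Perm.one_symm]; rfl⟩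

theorem det_mono (π : Equiv.Perm (Fin 4)) (d : Fin 4 → Fˣ) :
    (mono π d : Matrix (Fin 4) (Fin 4) F).det = (Equiv.Perm.sign π : ℤ) * ∏ i, (d i : F) := by
  rw [show (mono π d : Matrix (Fin 4) (Fin 4) F) =
    Matrix.of fun i j => (d i : F) * (1 : Matrix (Fin 4) (Fin 4) F).submatrix π.symm id i j by
      ext i j; simp [mono_apply, Matrix.one_apply],
    det_mul_column, det_permute, det_one, mul_one, Equiv.Perm.sign_symm]
  ring

/-- The generators of the normal subgroup. -/
def gens (F : Type*) [Field F] : Set (GL (Fin 4) F) :=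
  {x | (∃ a, x = mono 1 (chiU F a)) ∨ ∃ a, x = mono (tau a) fun _ => 1}

/-- The group of symplectic type attached to the standard frame. -/
def R₀ (F : Type*) [Field F] : Subgroup (GL (Fin 4) F) :=
  Subgroup.closure (gens F ∪ (Cfsg.Geo.scalars (Fin 4) F : Set (GL (Fin 4) F)))

theorem diag_mem (a : Fin 4) : mono 1 (chiU F a) ∈ R₀ F := Subgroup.subset_closure (Or.inl (Or.inl ⟨a, rfl⟩))

theorem perm_mem (a : Fin 4) : mono (tau a) (fun _ => (1 : Fˣ)) ∈ R₀ F :=
  Subgroup.subset_closure (Or.inl (Or.inr ⟨a, rfl⟩))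

theorem scalar_mem {x : GL (Fin 4) F} (hx : x ∈ Cfsg.Geo.scalars (Fin 4) F) : x ∈ R₀ F :=
  Subgroup.subset_closure (Or.inr hx)

theorem chi_mul_chi : ∀ a b : Fin 4, ∀ j, chi a (tau b j) = chi a (tau b 0) * chi a j := by decide

theorem tau_comm : ∀ a b : Fin 4, tau a * tau b = tau b * tau a := by decide

theorem tau_inv : ∀ a : Fin 4, (tau a).symm = tau a := by decide

theorem comm_scalars : ∀ x ∈ R₀ F, ∀ y ∈ R₀ F, x * y * x⁻¹ * y⁻¹ ∈ Cfsg.Geo.scalars (Fin 4) F := by
  have hgen : ∀ x ∈ gens F, ∀ y ∈ gens F, x * y * x⁻¹ * y⁻¹ ∈ Cfsg.Geo.scalars (Fin 4) F := by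
    have hdp : ∀ a b : Fin 4, mono 1 (chiU F a) * mono (tau b) (fun _ => 1) =
        mono 1 (fun _ => chiU F a (tau b 0)) * (mono (tau b) (fun _ => 1) * mono 1 (chiU F a)) := by
      intro a b
      rw [mono_mul, mono_mul, mono_mul, one_mul, one_mul, mul_one]
      congr 1
      funext i
      refine Units.ext ?_
      simp only [Units.val_mul, Units.val_one, chiU_val, mul_one, one_mul, Equiv.Perm.one_symm, Equiv.Perm.one_apply, tau_inv,
        ← Int.cast_mul]
      congr 1
      revert a b i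
      decide
    have hflip : ∀ {x y : GL (Fin 4) F}, x * y * x⁻¹ * y⁻¹ ∈ Cfsg.Geo.scalars (Fin 4) F →
        y * x * y⁻¹ * x⁻¹ ∈ Cfsg.Geo.scalars (Fin 4) F := fun {x y} h => by
      have := inv_mem h
      simpa [mul_assoc] using this
    have hc : ∀ {x y : GL (Fin 4) F}, x * y = y * x → x * y * x⁻¹ * y⁻¹ ∈ Cfsg.Geo.scalars (Fin 4) F :=
      fun {x y} h => by
        rw [h, mul_inv_cancel_right, mul_inv_cancel]; exact one_mem _
    have hdp' : ∀ a b : Fin 4, mono 1 (chiU F a) * mono (tau b) (fun _ => 1) * (mono 1 (chiU F a))⁻¹ *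
        (mono (tau b) fun _ => 1)⁻¹ ∈ Cfsg.Geo.scalars (Fin 4) F := fun a b => by
      rw [hdp, ← mul_assoc, mul_inv_cancel_right, mul_inv_cancel_right]
      exact mono_scalar _
    rintro x (⟨a, rfl⟩ | ⟨a, rfl⟩) y (⟨b, rfl⟩ | ⟨b, rfl⟩)
    · refine hc ?_
      rw [mono_mul, mono_mul]
      congr 1
      funext i
      exact mul_comm _ _
    · exact hdp' a b
    · exact hflip (hdp' b a)
    · refine hc ?_
      rw [mono_mul, mono_mul, tau_comm]
  let φ := QuotientGroup.mk' (Cfsg.Geo.scalars (Fin 4) F)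
  have hkey : ∀ x y : GL (Fin 4) F, x * y * x⁻¹ * y⁻¹ ∈ Cfsg.Geo.scalars (Fin 4) F ↔ φ x * φ y = φ y * φ x := by
    intro x y
    rw [← QuotientGroup.eq_one_iff]
    change φ (x * y * x⁻¹ * y⁻¹) = 1 ↔ _
    rw [map_mul, map_mul, map_mul, map_inv, map_inv, mul_inv_eq_one, mul_inv_eq_iff_eq_mul]
  intro x hx y hy
  rw [hkey]
  have hcomm : IsMulCommutative (Subgroup.closure (φ '' (gens F ∪ (Cfsg.Geo.scalars (Fin 4) F : Set (GL (Fin 4) F))))) := by
    refine Subgroup.isMulCommutative_closure ?_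
    rintro _ ⟨u, hu, rfl⟩ _ ⟨v, hv, rfl⟩
    have h1 : ∀ z : GL (Fin 4) F, z ∈ Cfsg.Geo.scalars (Fin 4) F → φ z = 1 := fun z hz =>
      (QuotientGroup.eq_one_iff z).2 hz
    rcases hu with hu | hu
    · rcases hv with hv | hv
      · exact (hkey u v).1 (hgen u hu v hv)
      · rw [h1 v hv, one_mul, mul_one]
    · rw [h1 u hu, one_mul, mul_one]
  have hmem : ∀ z ∈ R₀ F, φ z ∈ Subgroup.closure (φ '' (gens F ∪ (Cfsg.Geo.scalars (Fin 4) F : Set _))) := fun z hz => by
    rw [← MonoidHom.map_closure]; exact ⟨z, hz, rfl⟩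
  exact congrArg Subtype.val (hcomm.is_comm.comm ⟨_, hmem x hx⟩ ⟨_, hmem y hy⟩)

theorem absIrr (h2 : (2 : F) ≠ 0) : AbsIrr (R₀ F) := by
  have hd : ∀ a, (mono 1 (chiU F a) : Matrix (Fin 4) (Fin 4) F) ∈ Cfsg.Geo.matrixSet (R₀ F) :=
    fun a => ⟨_, diag_mem a, rfl⟩
  have hp : ∀ a, (mono (tau a) (fun _ => (1 : Fˣ)) : Matrix (Fin 4) (Fin 4) F) ∈ Cfsg.Geo.matrixSet (R₀ F) :=
    fun a => ⟨_, perm_mem a, rfl⟩
  have horth : ∀ i j : Fin 4, ∑ a, chi a j * chi a i = if i = j then 4 else 0 := by decide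
  have htrans : ∀ i j : Fin 4, ∃ a, (tau a).symm i = j := by decide
  have hsgn : ∀ a i j : Fin 4, chi a i ≠ chi a j →
      (chi a i = 1 ∧ chi a j = -1) ∨ (chi a i = -1 ∧ chi a j = 1) := by decide
  refine ⟨fun W hW => ?_, fun M hM => ?_⟩
  · by_cases hbot : W = ⊥
    · exact Or.inl hbot
    refine Or.inr (eq_top_iff.2 fun v _ => ?_)
    have hmaps : ∀ s ∈ Cfsg.Geo.matrixSet (R₀ F), ∀ w ∈ W, s *ᵥ w ∈ W := fun s hs w hw =>
      hW s hs ⟨w, hw, Matrix.toLin'_apply _ _⟩
    obtain ⟨w, hw, hw0⟩ := W.exists_mem_ne_zero_of_ne_bot hbot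
    obtain ⟨j, hj⟩ := Function.ne_iff.1 hw0
    have hej : (Pi.single j 1 : Fin 4 → F) ∈ W := by
      have h1 : ∑ a, (chi a j : F) • ((mono 1 (chiU F a) : Matrix (Fin 4) (Fin 4) F) *ᵥ w) ∈ W :=
        Submodule.sum_mem _ fun a _ => Submodule.smul_mem _ _ (hmaps _ (hd a) w hw)
      have h3 : ∑ a, (chi a j : F) • ((mono 1 (chiU F a) : Matrix (Fin 4) (Fin 4) F) *ᵥ w) =
          (4 * w j) • (Pi.single j 1 : Fin 4 → F) := by
        funext i
        simp only [Finset.sum_apply, Pi.smul_apply, smul_eq_mul, Matrix.mulVec, dotProduct, mono_apply,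
          Equiv.Perm.one_symm, Equiv.Perm.one_apply, ite_mul, zero_mul, Finset.sum_ite_eq, Finset.mem_univ, if_true, chiU_val,
          ← mul_assoc, ← Finset.sum_mul, ← Int.cast_mul, ← Int.cast_sum, horth]
        by_cases hij : i = j
        · subst hij; simp
        · simp [hij]
      rw [h3] at h1
      exact (Submodule.smul_mem_iff _ (mul_ne_zero (by
        rw [show (4 : F) = 2 * 2 by norm_num]; exact mul_ne_zero h2 h2) hj)).1 h1
    rw [pi_eq_sum_univ v]
    refine Submodule.sum_mem _ fun i _ => Submodule.smul_mem _ _ ?_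
    obtain ⟨a, ha⟩ := htrans i j
    convert hmaps _ (hp a) _ hej using 1
    funext k
    rw [Matrix.mulVec_single_one]
    simp only [Matrix.col_apply, mono_apply, Units.val_one, ← ha, EmbeddingLike.apply_eq_iff_eq, eq_comm]
  · refine ⟨M 0 0, Matrix.ext fun i j => ?_⟩
    by_cases hij : i = j
    · subst hij
      obtain ⟨a, ha⟩ := htrans i 0
      have h := congrFun (congrFun (hM _ (hp a)) i) 0
      simp only [Matrix.mul_apply, mono_apply, Units.val_one, mul_ite, mul_one, mul_zero, ite_mul, one_mul, zero_mul,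
        Finset.sum_ite_eq, Finset.mem_univ, if_true, ha] at h
      rw [Finset.sum_eq_single i (fun b _ hb => if_neg fun h' => hb ((tau a).symm.injective (h'.trans ha.symm)))
        (by simp), if_pos ha] at h
      simp [h]
    · obtain ⟨a, ha⟩ : ∃ a, chi a i ≠ chi a j := by revert hij; revert i j; decide
      have h := congrFun (congrFun (hM _ (hd a)) i) j
      simp only [Matrix.mul_apply, mono_apply, Equiv.Perm.one_symm, Equiv.Perm.one_apply, mul_ite, mul_zero,
        Finset.sum_ite_eq', ite_mul, zero_mul, Finset.sum_ite_eq, Finset.mem_univ, if_true, chiU_val] at h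
      have hne : (chi a i : F) - (chi a j : F) ≠ 0 := by
        rcases hsgn a i j ha with ⟨e1, e2⟩ | ⟨e1, e2⟩ <;> rw [e1, e2] <;> intro h0 <;>
          push_cast at h0
        · exact h2 (by linear_combination h0)
        · exact h2 (by linear_combination -h0)
      simp only [Matrix.smul_apply, Matrix.one_apply, if_neg hij, smul_zero]
      exact (mul_eq_zero.1 (show ((chi a i : F) - chi a j) * M i j = 0 by linear_combination -h)).resolve_left hne

theorem pair_sq {A : Type*} [CommGroup A] (x : Fin 4 → A) (hx : ∀ i, x i * x i = 1)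
    (hpr : x 0 * x 1 * (x 2 * x 3) = 1) (b i : Fin 4) : x i * x (tau b i) = x 0 * x (tau b 0) := by
  have hi : ∀ i, (x i)⁻¹ = x i := fun i => inv_eq_of_mul_eq_one_right (hx i)
  have hpair : ∀ {a b c e : A}, a * b * (c * e) = 1 → a⁻¹ = a → b⁻¹ = b → c * e = a * b := by
    intro a b c e h1 h2 h3
    rw [← inv_eq_of_mul_eq_one_right h1, mul_inv, h2, h3]
  have e01 := hpair hpr (hi 0) (hi 1)
  have e02 := hpair (a := x 0) (b := x 2) (c := x 1) (e := x 3) (by rw [← hpr]; ac_rfl) (hi 0) (hi 2)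
  have e03 := hpair (a := x 0) (b := x 3) (c := x 1) (e := x 2) (by rw [← hpr]; ac_rfl) (hi 0) (hi 3)
  have htab : ∀ b i : Fin 4, (i = 0 ∨ (i = tau b 0 ∧ tau b i = 0)) ∨ ((tau b i = i ∧ tau b 0 = 0) ∨
      (i, tau b i, tau b 0) ∈ [(2, 3, 1), (3, 2, 1), (1, 3, 2), (3, 1, 2), (1, 2, 3), (2, 1, 3)]) := by decide
  rcases htab b i with (h | ⟨h, h'⟩) | ⟨h, h'⟩ | h
  · rw [h]
  · rw [h', h, mul_comm]
  · rw [h, h', hx, hx]
  · simp only [List.mem_cons, Prod.mk.injEq, List.not_mem_nil, or_false] at h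
    rcases h with ⟨h1, h2, h3⟩ | ⟨h1, h2, h3⟩ | ⟨h1, h2, h3⟩ | ⟨h1, h2, h3⟩ | ⟨h1, h2, h3⟩ | ⟨h1, h2, h3⟩ <;>
      rw [h2, h3, h1]
    exacts [e01, (mul_comm _ _).trans e01, e02, (mul_comm _ _).trans e02, e03, (mul_comm _ _).trans e03]

theorem sign_vec (r : Fin 4 → Fˣ) (hsq : ∀ i, r i ^ 2 = r 0 ^ 2) (hrprod : ∏ i, r i = 1) (hr0 : r 0 ^ 4 = 1) :
    ∃ e, r = fun i => r 0 * chiU F e i := by
  have hs : ∀ i, ((r i : F) = r 0 ∨ (r i : F) = -(r 0 : F)) := fun i => by
    have h := congrArg (fun u : Fˣ => (u : F)) (hsq i)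
    simp only [Units.val_pow_eq_pow_val] at h
    exact sq_eq_sq_iff_eq_or_eq_neg.1 h
  have hr4 : (r 0 : F) ^ 4 = 1 := by rw [← Units.val_pow_eq_pow_val, hr0, Units.val_one]
  have hpF : (r 0 : F) * r 1 * r 2 * r 3 = 1 := by
    have := congrArg (fun u : Fˣ => (u : F)) hrprod
    simpa [Fin.prod_univ_four] using this
  have h0 : (r 0 : F) ≠ 0 := Units.ne_zero _
  have key : ∀ e : Fin 4, (r 1 : F) = r 0 * (chi e 1 : F) → (r 2 : F) = r 0 * (chi e 2 : F) →
      r = fun i => r 0 * chiU F e i := by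
    intro e h1 h2
    have h3 : (r 3 : F) = r 0 * (chi e 3 : F) := by
      refine mul_left_cancel₀ (mul_ne_zero (mul_ne_zero h0 (Units.ne_zero (r 1))) (Units.ne_zero (r 2))) ?_
      rw [hpF, h1, h2]
      rw [show (r 0 : F) * (r 0 * (chi e 1 : F)) * (r 0 * (chi e 2 : F)) * (r 0 * (chi e 3 : F)) =
        (r 0 : F) ^ 4 * ((chi e 1 * chi e 2 * chi e 3 : ℤ) : F) by push_cast; ring, hr4, one_mul,
        (show ∀ e, chi e 1 * chi e 2 * chi e 3 = 1 by decide) e, Int.cast_one]
    funext i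
    refine Units.ext ?_
    rw [Units.val_mul, chiU_val]
    fin_cases i
    · show (r 0 : F) = r 0 * (chi e 0 : F)
      rw [(show ∀ e, chi e 0 = 1 by decide) e, Int.cast_one, mul_one]
    · exact h1
    · exact h2
    · exact h3
  rcases hs 1 with h1 | h1 <;> rcases hs 2 with h2 | h2
  · exact ⟨0, key 0 (by simp [chi, h1]) (by simp [chi, h2])⟩
  · exact ⟨2, key 2 (by simp [chi, h1]) (by simp [chi, h2])⟩
  · exact ⟨1, key 1 (by simp [chi, h1]) (by simp [chi, h2])⟩
  · exact ⟨3, key 3 (by simp [chi, h1]) (by simp [chi, h2])⟩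

theorem prod_chiU (a : Fin 4) : ∏ i, chiU F a i = 1 := by
  refine Units.ext ?_
  rw [Units.coe_prod, Units.val_one]
  simp only [chiU_val]
  rw [← Int.cast_prod, show ∏ i, chi a i = 1 by revert a; decide, Int.cast_one]

theorem conj_tau (π : Equiv.Perm (Fin 4)) (a : Fin 4) : ∃ b, π * tau a = tau b * π := by
  by_cases ha : a = 0
  · exact ⟨0, by subst ha; simp [tau]⟩
  set ρ := π * tau a * π⁻¹ with hρ
  have happ : ∀ i, ρ i = π (tau a (π.symm i)) := fun i => rfl
  have hinv : ∀ i, ρ (ρ i) = i := fun i => by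
    have h2 : ∀ a i, tau a (tau a i) = i := by decide
    rw [happ, happ, Equiv.symm_apply_apply, h2, Equiv.apply_symm_apply]
  have hne : ∀ i, ρ i ≠ i := fun i h => by
    have h2 : ∀ a i, a ≠ 0 → tau a i ≠ i := by decide
    rw [happ] at h
    exact h2 a (π.symm i) ha (π.injective (h.trans (π.apply_symm_apply i).symm))
  refine ⟨ρ 0, ?_⟩
  rw [← mul_inv_eq_iff_eq_mul, ← hρ]
  refine Equiv.ext fun i => ?_
  by_cases hi0 : i = 0
  · subst hi0
    exact ((show ∀ b, tau b 0 = b by decide) _).symm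
  by_cases hib : i = ρ 0
  · subst hib
    rw [hinv]
    exact ((show ∀ b, tau b b = 0 by decide) _).symm
  have htab : ∀ b i j : Fin 4, b ≠ 0 → i ≠ 0 → i ≠ b → j ≠ 0 → j ≠ b → j ≠ i → j = tau b i := by decide
  exact htab _ i _ (hne 0) hi0 hib (fun h => hib (by rw [← hinv i, h]))
    (fun h => hi0 (ρ.injective h)) (hne i)

/-- Monomial matrices of norm one entries and determinant one normalise the group. -/
theorem mono_conj_mem {π : Equiv.Perm (Fin 4)} {d : Fin 4 → Fˣ} (hd : ∀ i, d i ^ 4 = 1)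
    (hP : (∏ i, d i) ^ 2 = 1) {x : GL (Fin 4) F} (hx : x ∈ R₀ F) : mono π d * x * (mono π d)⁻¹ ∈ R₀ F := by
  suffices h : R₀ F ≤ (R₀ F).comap (MulAut.conj (mono π d)).toMonoidHom from h hx
  refine (Subgroup.closure_le _).2 ?_
  rintro x (hx | hx)
  swap
  · show mono π d * x * (mono π d)⁻¹ ∈ R₀ F
    rw [show mono π d * x = x * mono π d from (scalars_comm hx _).symm, mul_inv_cancel_right]
    exact scalar_mem hx
  show mono π d * x * (mono π d)⁻¹ ∈ R₀ F
  rcases hx with ⟨a, rfl⟩ | ⟨a, rfl⟩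
  · have hz : ∀ i, chiU F a i ^ 2 = 1 := fun i => by unfold chiU; split <;> simp
    obtain ⟨b, hb'⟩ := sign_vec (fun i => chiU F a (π.symm i)) (fun i => (hz _).trans (hz _).symm)
      (by rw [Equiv.prod_comp π.symm (chiU F a)]; exact prod_chiU a)
      ((pow_mul _ 2 2).trans (by rw [hz, one_pow]))
    have hb : ∀ i, (chi a (π.symm i) : F) = (chi a (π.symm 0) : F) * (chi b i : F) := fun i => by
      have h := congrArg (fun u : Fˣ => (u : F)) (congrFun hb' i)
      simpa [chiU_val] using h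
    rw [show mono π d * mono 1 (chiU F a) = mono 1 (fun _ => chiU F a (π.symm 0)) * mono 1 (chiU F b) * mono π d by
      rw [mono_mul, mono_mul, mono_mul, one_mul, one_mul, mul_one]
      congr 1
      funext i
      refine Units.ext ?_
      simp only [Units.val_mul, chiU_val, Equiv.Perm.one_symm, Equiv.Perm.one_apply, hb i]
      ring, mul_inv_cancel_right]
    exact mul_mem (scalar_mem (mono_scalar _)) (diag_mem b)
  · obtain ⟨b, hb⟩ := conj_tau π a
    let r : Fin 4 → Fˣ := fun i => d i / d (tau b i)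
    have hsq : ∀ i, r i ^ 2 = r 0 ^ 2 := by
      have hpr : d 0 ^ 2 * d 1 ^ 2 * (d 2 ^ 2 * d 3 ^ 2) = 1 := by
        rw [← hP]; simp only [Fin.prod_univ_four, mul_pow, mul_assoc]
      have hsymm : ∀ i, (d i ^ 2)⁻¹ = d i ^ 2 := fun i =>
        inv_eq_of_mul_eq_one_right (by rw [← pow_add]; exact hd i)
      have hkey : ∀ i, r i ^ 2 = d i ^ 2 * d (tau b i) ^ 2 := fun i => by
        show (d i / d (tau b i)) ^ 2 = _
        rw [div_pow, div_eq_mul_inv, hsymm]
      intro i
      rw [hkey, hkey]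
      exact pair_sq (fun i => d i ^ 2) (fun i => by rw [← pow_add]; exact hd i) hpr b i
    have hrprod : ∏ i, r i = 1 := by
      rw [Finset.prod_div_distrib, Equiv.prod_comp (tau b) d, div_self']
    obtain ⟨e, he⟩ : ∃ e, r = fun i => r 0 * chiU F e i := by
      refine sign_vec r hsq hrprod ?_
      show (d 0 / d (tau b 0)) ^ 4 = 1
      rw [div_pow, hd, hd, div_one]
    rw [show mono π d * mono (tau a) (fun _ => 1) =
        mono 1 (fun _ => r 0) * mono 1 (chiU F e) * mono (tau b) (fun _ => 1) * mono π d by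
      rw [mono_mul, mono_mul, mono_mul, mono_mul, one_mul, one_mul, hb]
      congr 1
      funext i
      simp only [Equiv.Perm.one_symm, Equiv.Perm.one_apply, mul_one, tau_inv]
      rw [← congrFun he i]
      exact (div_mul_cancel _ _).symm, mul_inv_cancel_right]
    exact mul_mem (mul_mem (scalar_mem (mono_scalar _)) (diag_mem e)) (perm_mem b)

theorem mono_mem_normalizer [Finite F] {π : Equiv.Perm (Fin 4)} {d : Fin 4 → Fˣ} (hd : ∀ i, d i ^ 4 = 1)
    (hP : (∏ i, d i) ^ 2 = 1) : mono π d ∈ Cfsg.Geo.subgroupNormalizer (R₀ F) :=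
  mem_normalizer_of_conj fun _ hx => mono_conj_mem hd hP hx
where
  mem_normalizer_of_conj {g : GL (Fin 4) F} (h : ∀ x ∈ R₀ F, g * x * g⁻¹ ∈ R₀ F) :
      g ∈ Cfsg.Geo.subgroupNormalizer (R₀ F) := by
    haveI : Finite (GL (Fin 4) F) := Finite.of_injective _ Units.val_injective
    refine Subgroup.mem_normalizer_iff.2 fun x => ⟨h x, fun hx => ?_⟩
    obtain ⟨y, hy⟩ := (Finite.injective_iff_surjective (f := fun y : R₀ F => (⟨g * y * g⁻¹, h y y.2⟩ : R₀ F))).1
      (fun a b hab => Subtype.ext (by simpa using congrArg Subtype.val hab)) ⟨_, hx⟩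
    have : (y : GL (Fin 4) F) = x := by simpa using congrArg Subtype.val hy
    exact this ▸ y.2

/-- The Hadamard matrix. -/
def had (h4 : (4 : F) = 1) : GL (Fin 4) F where
  val := Matrix.of fun i j => (chi i j : F)
  inv := Matrix.of fun i j => (chi i j : F)
  val_inv := by
    ext i j
    rw [Matrix.mul_apply, show ∑ k, Matrix.of (fun i j => (chi i j : F)) i k * Matrix.of (fun i j => (chi i j : F)) k j =
      ((∑ k, chi i k * chi k j : ℤ) : F) by push_cast; rfl,
      show ∑ k, chi i k * chi k j = if i = j then 4 else 0 by revert i j; decide]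
    by_cases h : i = j <;> simp [h, h4, Matrix.one_apply]
  inv_val := by
    ext i j
    rw [Matrix.mul_apply, show ∑ k, Matrix.of (fun i j => (chi i j : F)) i k * Matrix.of (fun i j => (chi i j : F)) k j =
      ((∑ k, chi i k * chi k j : ℤ) : F) by push_cast; rfl,
      show ∑ k, chi i k * chi k j = if i = j then 4 else 0 by revert i j; decide]
    by_cases h : i = j <;> simp [h, h4, Matrix.one_apply]

theorem had_diag (h4 : (4 : F) = 1) (a : Fin 4) :
    had h4 * mono 1 (chiU F a) = mono (tau a) (fun _ => 1) * had h4 ∧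
    had h4 * mono (tau a) (fun _ => 1) = mono 1 (chiU F a) * had h4 := by
  constructor <;> refine Units.ext (Matrix.ext fun i j => ?_) <;>
    simp only [Units.val_mul, Matrix.mul_apply, mono_apply, had, Matrix.of_apply, Equiv.Perm.one_symm,
      Equiv.Perm.one_apply, mul_ite, mul_zero, ite_mul, zero_mul, Finset.sum_ite_eq, Finset.sum_ite_eq', Finset.mem_univ,
      if_true, chiU_val, Units.val_one, one_mul, mul_one]
  · rw [← Int.cast_mul]
    congr 1
    revert a i j
    decide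
  · rw [Finset.sum_eq_single ((tau a) j) (fun k _ hk => if_neg fun h => hk (by rw [← h, Equiv.apply_symm_apply]))
      (by simp), if_pos (Equiv.symm_apply_apply _ _), ← Int.cast_mul]
    congr 1
    revert a i j
    decide

theorem had_mem_normalizer [Finite F] (h4 : (4 : F) = 1) : had h4 ∈ Cfsg.Geo.subgroupNormalizer (R₀ F) := by
  refine mono_mem_normalizer.mem_normalizer_of_conj fun x hx => ?_
  suffices h : R₀ F ≤ (R₀ F).comap (MulAut.conj (had h4)).toMonoidHom from h hx
  refine (Subgroup.closure_le _).2 ?_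
  rintro y ((⟨a, rfl⟩ | ⟨a, rfl⟩) | hy)
  · show had h4 * mono 1 (chiU F a) * (had h4)⁻¹ ∈ R₀ F
    rw [(had_diag h4 a).1, mul_inv_cancel_right]
    exact perm_mem a
  · show had h4 * mono (tau a) (fun _ => 1) * (had h4)⁻¹ ∈ R₀ F
    rw [(had_diag h4 a).2, mul_inv_cancel_right]
    exact diag_mem a
  · show had h4 * y * (had h4)⁻¹ ∈ R₀ F
    rw [(scalars_comm hy _).symm, mul_inv_cancel_right]
    exact scalar_mem hy

end FourLines

open FourLines

variable {F : Type*} [Field F] [Fintype F] {q : ℕ}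

/-- Over nine elements the monomial groups of degree four are not maximal. -/
theorem four_lines_not_maximal (hF : Fintype.card F = q ^ 2) (hq : q = 3) {H : Subgroup (GL (Fin 4) F)}
    (hH : Cfsg.Geo.IsMaximalIn (su 4 F q) H) {D : Fin 4 → Submodule F (Fin 4 → F)}
    (hD : Cfsg.Geo.IsNondegenerateMDecomposition (Cfsg.hermForm 4 F q) 1 D)
    (hle : H ≤ Cfsg.Geo.decompositionStabilizer D) : False := by
  classical
  subst hq
  obtain ⟨σ, hσ, hinv, hne⟩ := exists_frob hF
  set f := Cfsg.hermForm 4 F 3 with hfdef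
  have hf : Cfsg.Geo.IsUnitaryForm σ f := isUnitaryForm_hermForm hσ hinv hne
  have hT : ∀ v, f v v = 0 → ∀ c, c + σ c = 0 → uT f v c ∈ su 4 F 3 := fun v hv c hc =>
    uT_mem_SU hσ hinv hne hv hc
  have h3 : (3 : F) = 0 := by
    have h := FiniteField.cast_card_eq_zero F
    rw [hF] at h
    push_cast at h
    exact mul_self_eq_zero.1 (by linear_combination h)
  have h4 : (4 : F) = 1 := by linear_combination h3
  have h2 : (2 : F) ≠ 0 := fun h => one_ne_zero (α := F) (by linear_combination h3 - h)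
  have hfa : ∀ u v : Fin 4 → F, f u v = ∑ i, u i * σ (v i) := fun u v => by simp [hfdef, Cfsg.hermForm, hσ]
  -- an orthonormal basis adapted to the frame
  have hu : ∀ i, ∃ u ∈ D i, f u u = 1 := fun i => by
    obtain ⟨x, hx, hxx⟩ := exists_aniso hf (fun h => by
      have := hD.decomp.finrank_eq i; rw [h, finrank_bot] at this; exact zero_ne_one this)
      fun w hw hw0 => (hD.nondegenerate i w hw hw0).1
    obtain ⟨l, hl⟩ := CfsgLib.Transvec.Unitary.exists_norm_eq hne hinv (self_fixed hf x)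
    have hl0 : l ≠ 0 := fun h => hxx (by rw [← hl, h, zero_mul])
    refine ⟨l⁻¹ • x, (D i).smul_mem _ hx, ?_⟩
    rw [hf.smul_left, smul_right' hf, map_inv₀, ← hl]
    field_simp [(map_ne_zero_iff _ σ.injective).2 hl0]
  choose u hu hu1 using hu
  have hspan : ∀ i, ∀ x ∈ D i, ∃ c : F, c • u i = x := fun i x hx => by
    have hu0 : (⟨u i, hu i⟩ : D i) ≠ 0 := fun h => by
      have h1 := hu1 i
      rw [show u i = 0 from congrArg Subtype.val h] at h1
      exact zero_ne_one ((show f 0 0 = 0 by simpa using hf.smul_left 0 0 0).symm.trans h1)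
    obtain ⟨c, hc⟩ := exists_smul_eq_of_finrank_eq_one (hD.decomp.finrank_eq i) hu0 ⟨x, hx⟩
    exact ⟨c, congrArg Subtype.val hc⟩
  let M : Matrix (Fin 4) (Fin 4) F := Matrix.of fun i j => u j i
  have hMM : Mᵀ * M.map σ = 1 := by
    refine Matrix.ext fun i j => ?_
    rw [show (Mᵀ * M.map σ) i j = f (u i) (u j) by simp [hfa, Matrix.mul_apply, M]]
    by_cases h : i = j
    · subst h; rw [hu1, Matrix.one_apply_eq]
    · rw [hD.orthogonal i j h _ (hu i) _ (hu j), Matrix.one_apply_ne h]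
  let g₀ : GL (Fin 4) F := ⟨M, (M.map σ)ᵀ, mul_eq_one_comm.1 (by
      have := congrArg Matrix.transpose hMM; simpa [transpose_mul] using this), by
      have := congrArg Matrix.transpose hMM; simpa [transpose_mul] using this⟩
  have hiso : ∀ g : GL (Fin 4) F, g ∈ Cfsg.GU 4 F 3 ↔
      (g : Matrix (Fin 4) (Fin 4) F)ᵀ * (g : Matrix (Fin 4) (Fin 4) F).map σ = 1 := fun g => by
    rw [CfsgLib.Aschbacher.gu_eq_isoGroup ⟨hF, hσ, hinv, hne⟩]
    exact CfsgLib.Aschbacher.mem_isoGroup
  have hg₀ : g₀ ∈ Cfsg.GU 4 F 3 := (hiso g₀).2 hMM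
  have hnorm : ∀ a ∈ Cfsg.GU 4 F 3, ∀ x ∈ su 4 F 3, a * x * a⁻¹ ∈ su 4 F 3 := fun a ha x hx =>
    ⟨(Cfsg.GU 4 F 3).mul_mem ((Cfsg.GU 4 F 3).mul_mem ha hx.1) ((Cfsg.GU 4 F 3).inv_mem ha),
      Subgroup.Normal.conj_mem (MonoidHom.normal_ker _) x hx.2 a⟩
  let K : Subgroup (GL (Fin 4) F) :=
    (Cfsg.Geo.subgroupNormalizer (R₀ F)).map (MulAut.conj g₀).toMonoidHom ⊓ su 4 F 3
  have hmemK : ∀ x : GL (Fin 4) F, g₀⁻¹ * x * g₀ ∈ Cfsg.Geo.subgroupNormalizer (R₀ F) → x ∈ su 4 F 3 → x ∈ K :=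
    fun x hx hx' => ⟨⟨_, hx, by simp [mul_assoc]⟩, hx'⟩
  have hcoord : ∀ x : GL (Fin 4) F, x ∈ su 4 F 3 → x ∈ Cfsg.Geo.decompositionStabilizer D →
      ∃ π d, g₀⁻¹ * x * g₀ = mono π d := by
    rintro x hx ⟨π, hπ⟩
    have hc : ∀ j, ∃ c : Fˣ, (x : Matrix (Fin 4) (Fin 4) F) *ᵥ u j = (c : F) • u (π j) := fun j => by
      obtain ⟨c, hc⟩ := hspan (π j) ((x : Matrix (Fin 4) (Fin 4) F) *ᵥ u j)
        (hπ j ▸ ⟨u j, hu j, Matrix.toLin'_apply _ _⟩)
      refine ⟨Units.mk0 c fun h => ?_, hc.symm⟩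
      have h1 : f ((x : Matrix (Fin 4) (Fin 4) F) *ᵥ u j) ((x : Matrix (Fin 4) (Fin 4) F) *ᵥ u j) = 1 :=
        (hx.1 (u j) (u j)).trans (hu1 j)
      rw [← hc, h, hf.smul_left, zero_mul] at h1
      exact zero_ne_one h1
    choose c hc using hc
    refine ⟨π, fun i => c (π.symm i), ?_⟩
    rw [mul_assoc, inv_mul_eq_iff_eq_mul]
    refine Units.ext (Matrix.ext fun i j => ?_)
    have h := congrFun (hc j) i
    rw [Units.val_mul, Units.val_mul, Matrix.mul_apply, Matrix.mul_apply]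
    change ∑ k, (x : Matrix (Fin 4) (Fin 4) F) i k * M k j = ∑ k, M i k * _
    have e : ∑ k, M i k * (mono π (fun i => c (π.symm i)) : Matrix (Fin 4) (Fin 4) F) k j = M i (π j) * c j := by
      rw [Finset.sum_eq_single (π j) (fun k _ hk => by
        rw [mono_apply, if_neg fun h => hk (by rw [← h, Equiv.apply_symm_apply]), mul_zero]) (by simp), mono_apply,
        if_pos (Equiv.symm_apply_apply _ _), Equiv.symm_apply_apply]
    refine Eq.trans ?_ e.symm
    simpa [Matrix.mulVec, dotProduct, M, mul_comm] using h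
  have hHK : H ≤ K := fun x hx => by
    refine hmemK x ?_ (hH.1.le hx)
    obtain ⟨π, d, he⟩ := hcoord x (hH.1.le hx) (hle hx)
    rw [he]
    have hu' : mono π d ∈ su 4 F 3 := by
      rw [← he]; simpa using hnorm g₀⁻¹ ((Cfsg.GU 4 F 3).inv_mem hg₀) x (hH.1.le hx)
    have hd : ∀ i, d i ^ 4 = 1 := fun i => Units.ext (by
      have h := congrFun (congrFun ((hiso _).1 hu'.1) (π.symm i)) (π.symm i)
      rw [Matrix.mul_apply, Finset.sum_eq_single i (fun k _ hk => by
        rw [Matrix.transpose_apply, mono_apply, if_neg fun h => hk (π.symm.injective h), zero_mul]) (by simp),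
        Matrix.transpose_apply, Matrix.map_apply, mono_apply, if_pos rfl, hσ, ← pow_succ', Matrix.one_apply_eq] at h
      rw [Units.val_pow_eq_pow_val, Units.val_one]
      exact h)
    refine mono_mem_normalizer hd (Units.ext ?_)
    have hdet := (CfsgLib.Transvec.mem_specialLinear_iff _).1 hu'.2
    rw [det_mono] at hdet
    rw [Units.val_pow_eq_pow_val, Units.coe_prod, Units.val_one]
    rcases Int.units_eq_one_or (Equiv.Perm.sign π) with h | h <;> rw [h] at hdet <;> push_cast at hdet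
    · linear_combination ((∏ i, (d i : F)) + 1) * hdet
    · linear_combination ((1 : F) - ∏ i, (d i : F)) * hdet
  have hwit : g₀ * had h4 * g₀⁻¹ ∈ K := by
    refine hmemK _ (by simpa [mul_assoc] using had_mem_normalizer h4) (hnorm g₀ hg₀ _ ⟨(hiso _).2 ?_, ?_⟩)
    · show (Matrix.of fun i j => (chi i j : F))ᵀ * (Matrix.of fun i j => (chi i j : F)).map σ = 1
      refine Eq.trans ?_ (had h4).val_inv
      congr 1
      · ext i j
        show (chi j i : F) = (chi i j : F)
        congr 1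
        revert i j; decide
      · ext i j
        exact map_intCast σ.toRingHom _
    · refine (CfsgLib.Transvec.mem_specialLinear_iff _).2 ?_
      show ((Matrix.of fun i j => chi i j).map (Int.castRingHom F)).det = 1
      rw [← RingHom.mapMatrix_apply, ← RingHom.map_det, show (Matrix.of fun i j => chi i j).det = 16 by decide]
      simp
      linear_combination (4 + 1) * h4 - 4 * h3 + 4 * h3
  rcases hH.2 K hHK inf_le_right with h | h
  · have hx : g₀ * had h4 * g₀⁻¹ ∈ H := h ▸ hwit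
    obtain ⟨π, d, he⟩ := hcoord _ (hH.1.le hx) (hle hx)
    rw [show g₀⁻¹ * (g₀ * had h4 * g₀⁻¹) * g₀ = had h4 by group] at he
    obtain ⟨k, hk⟩ : ∃ k, π.symm 0 ≠ k := exists_ne _ |>.imp fun _ h => Ne.symm h
    have h1 := congrArg (fun g : GL (Fin 4) F => (g : Matrix (Fin 4) (Fin 4) F) 0 k) he
    simp only [mono_apply, if_neg hk] at h1
    change (chi 0 k : F) = 0 at h1
    rw [(show ∀ k, chi 0 k = 1 by decide) k, Int.cast_one] at h1
    exact one_ne_zero h1
  · refine not_le_normalizer hf hT (by rw [Fintype.card_fin]) (absIrr h2) comm_scalars fun x hx => ?_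
    have hx' : g₀ * x * g₀⁻¹ ∈ K := h.symm ▸ hnorm g₀ hg₀ x hx
    obtain ⟨⟨y, hy, hxy⟩, -⟩ := hx'
    have : y = x := by simpa using hxy
    exact this ▸ hy

end CfsgLib.AschUList
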