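import Cfsg.Agent.Lib.Techniques.AschPrimeU.Proper
import Cfsg.Agent.Lib.Techniques.AschPrimeU.ProperNorm
import Cfsg.Agent.Lib.Techniques.AschSL.Proper

/-!
# The unitary transvections avoid the members of the geometric classes in composite degree
-/

set_option autoImplicit false

namespace CfsgLib.AschUList

open Matrix CfsgLib.Transvec CfsgLib.Transvec.Unitary CfsgLib.Techniques.AschPrime CfsgLib.Techniques.AschPrimeU
open CfsgLib.Classical22.Asch (toCoord toCoord_eq_iff)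
open scoped MatrixGroups Kronecker

variable {ι : Type} [Fintype ι] [DecidableEq ι] {F : Type*} [Field F] [Finite F] {σ : F ≃+* F}
  {f : (ι → F) → (ι → F) → F} (hf : Cfsg.Geo.IsUnitaryForm σ f) {G : Subgroup (GL ι F)}
  (hT : ∀ v, f v v = 0 → ∀ c, c + σ c = 0 → uT f v c ∈ G)

/-- A non-trivial transvection with given data. -/
theorem exists_transv (hn : 2 ≤ Fintype.card ι) (hf : Cfsg.Geo.IsUnitaryForm σ f)
    (hT : ∀ v, f v v = 0 → ∀ c, c + σ c = 0 → uT f v c ∈ G) :
    ∃ v φ : ι → F, v ≠ 0 ∧ φ ≠ 0 ∧ φ ⬝ᵥ v = 0 ∧ transv v φ ∈ G := by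
  obtain ⟨e, g, he0, he, -, heg⟩ := exists_hyperbolic hf hn
  obtain ⟨c, hc0, hc⟩ := exists_skew hf.ne_refl hf.involutive
  refine ⟨e, c • uvec f e, he0, fun h => ?_, uT_dot hf he c, hT e he c hc⟩
  have h1 : (c • uvec f e) ⬝ᵥ g = 0 := by rw [h, zero_dotProduct]
  rw [smul_dotProduct, uvec_dot hf, hf.herm, heg, map_one, smul_eq_mul, mul_one] at h1
  exact hc0 h1

include hf hT

/-- Decompositions into parts of dimension at least two are not preserved. -/
theorem not_le_blocks {t k : ℕ} {D : Fin t → Submodule F (ι → F)} (hD : Cfsg.Geo.IsMDecomposition k D) (hk : 2 ≤ k)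
    (hn : 2 ≤ Fintype.card ι) : ¬ G ≤ Cfsg.Geo.decompositionStabilizer D := by
  classical
  intro hle
  have ht := hD.two_le
  let i₀ : Fin t := ⟨0, by omega⟩
  let i₁ : Fin t := ⟨1, by omega⟩
  have hne : ∀ i, D i ≠ ⊥ := fun i h => by
    have h1 := hD.finrank_eq i
    rw [h, finrank_bot] at h1
    omega
  have htop : D i₀ ≠ ⊤ := fun h => hne i₁ (by
    have := hD.indep.pairwiseDisjoint (show i₁ ≠ i₀ by simp [i₀, i₁])
    rwa [Function.onFun, h, disjoint_top] at this)
  let G' : Subgroup (GL ι F) := Subgroup.closure {g | ∃ v c, f v v = 0 ∧ c + σ c = 0 ∧ uT f v c = g}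
  have hstab : G' ≤ Cfsg.Geo.subspaceStabilizer (D i₀) := by
    refine (Subgroup.closure_le _).2 ?_
    rintro _ ⟨v, c, hv, hc, rfl⟩
    obtain ⟨π, hπ⟩ := hle (hT v hv c hc)
    have hfix : π i₀ = i₀ := by
      by_contra hne0
      let L : D i₀ →ₗ[F] F :=
        { toFun := fun x => f (x : ι → F) v
          map_add' := fun a b => hf.add_left _ _ _
          map_smul' := fun a b => hf.smul_left _ _ _ }
      obtain ⟨x, hx, hx0⟩ := Submodule.exists_mem_ne_zero_of_ne_bot
        (LinearMap.ker_ne_bot_of_finrank_lt (f := L) (by rw [Module.finrank_self, hD.finrank_eq]; omega))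
      have hxv : f (x : ι → F) v = 0 := LinearMap.mem_ker.1 hx
      have hmem : (uT f v c : Matrix ι ι F) *ᵥ (x : ι → F) ∈ D (π i₀) := by
        rw [← hπ i₀]
        exact ⟨x, x.2, Matrix.toLin'_apply _ _⟩
      rw [uT_mulVec hf hv, hxv, mul_zero, zero_smul, add_zero] at hmem
      exact hx0 (Subtype.ext (Submodule.disjoint_def.1 (hD.indep.pairwiseDisjoint hne0) _ hmem x.2))
    refine mem_subspaceStabilizer_of_maps fun x hx => ?_
    have := hπ i₀
    rw [hfix] at this
    rw [← this]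
    exact ⟨x, hx, Matrix.toLin'_apply _ _⟩
  exact not_le_subspaceStabilizer hf (G := G') (fun v hv c hc => Subgroup.subset_closure ⟨v, c, hv, hc, rfl⟩) hn
    (hne i₀) htop hstab

omit hf hT [Finite F] in
theorem outer_singular {b : ℕ} (hb : 2 ≤ b) {B : Matrix (Fin b) (Fin b) F} {u ψ : Fin b → F}
    (hB : IsUnit B) (h : ∀ k l, B k l = u k * ψ l) : False := by
  obtain ⟨k, rfl⟩ : ∃ k, b = k + 2 := ⟨b - 2, by omega⟩
  obtain ⟨v, hv, hv0⟩ : ∃ v : Fin (k + 2) → F, ψ ⬝ᵥ v = 0 ∧ v ≠ 0 := by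
    by_cases h0 : ψ 0 = 0
    · exact ⟨Pi.single 0 1, by simp [h0], by simp⟩
    · refine ⟨Pi.single 0 (ψ 1) - Pi.single 1 (ψ 0), ?_, fun h1 => ?_⟩
      · rw [dotProduct_sub, dotProduct_single, dotProduct_single]; ring
      · have := congrFun h1 1
        simp at this
        exact h0 this
  refine hv0 ((Matrix.mulVec_injective_iff_isUnit.2 hB) ?_)
  rw [Matrix.mulVec_zero]
  funext i
  simp only [Matrix.mulVec, dotProduct, h, mul_assoc, ← Finset.mul_sum, Pi.zero_apply]
  rw [show ∑ x, ψ x * v x = 0 from hv, mul_zero]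

omit hf hT [Finite F] in
/-- A transvection is not a Kronecker product. -/
theorem kronecker_ne_transv {a b : ℕ} (ha : 2 ≤ a) (hb : 2 ≤ b) {A : GL (Fin a) F} {B : GL (Fin b) F}
    {w ψ : Fin a × Fin b → F} (hdot : ψ ⬝ᵥ w = 0)
    (h : (A : Matrix (Fin a) (Fin a) F) ⊗ₖ (B : Matrix (Fin b) (Fin b) F) = 1 + vecMulVec w ψ) :
    vecMulVec w ψ = 0 := by
  have he : ∀ i k j l, (A : Matrix (Fin a) (Fin a) F) i j * (B : Matrix (Fin b) (Fin b) F) k l =
      (if i = j ∧ k = l then 1 else 0) + w (i, k) * ψ (j, l) := fun i k j l => by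
    have := congrFun (congrFun h (i, k)) (j, l)
    simpa [Matrix.one_apply, Prod.ext_iff, vecMulVec_apply] using this
  have hA : ∀ i j, i ≠ j → (A : Matrix (Fin a) (Fin a) F) i j = 0 := fun i j hij => by
    by_contra h0
    refine outer_singular hb B.isUnit (u := fun k => w (i, k) / (A : Matrix (Fin a) (Fin a) F) i j)
      (ψ := fun l => ψ (j, l)) fun k l => ?_
    have h1 := he i k j l
    rw [if_neg (fun h => hij h.1), zero_add] at h1
    field_simp
    linear_combination h1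
  have hB : ∀ k l, k ≠ l → (B : Matrix (Fin b) (Fin b) F) k l = 0 := fun k l hkl => by
    by_contra h0
    refine outer_singular ha A.isUnit (u := fun i => w (i, k) / (B : Matrix (Fin b) (Fin b) F) k l)
      (ψ := fun j => ψ (j, l)) fun i j => ?_
    have h1 := he i k j l
    rw [if_neg (fun h => hkl h.2), zero_add] at h1
    field_simp
    linear_combination h1
  have hoff : ∀ x y, x ≠ y → w x * ψ y = 0 := by
    rintro ⟨i, k⟩ ⟨j, l⟩ hxy
    have h1 := he i k j l
    rw [if_neg (fun h => hxy (Prod.ext h.1 h.2)), zero_add] at h1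
    rw [← h1]
    by_cases hij : i = j
    · rw [hB k l fun hkl => hxy (Prod.ext hij hkl), mul_zero]
    · rw [hA i j hij, zero_mul]
  ext x y
  rw [vecMulVec_apply, Matrix.zero_apply]
  by_cases hxy : x = y
  swap
  · exact hoff x y hxy
  subst hxy
  by_contra h0
  have hw : w x ≠ 0 := fun h1 => h0 (by rw [h1, zero_mul])
  have hz : ∀ y, y ≠ x → ψ y = 0 := fun y hy => (mul_eq_zero.1 (hoff x y (Ne.symm hy))).resolve_left hw
  rw [dotProduct, Finset.sum_eq_single x (fun y _ hy => by rw [hz y hy, zero_mul]) (by simp)] at hdot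
  exact h0 (by rw [mul_comm]; exact hdot)

/-- Transvections in the coordinates of `(e, P)`. -/
theorem exists_coord_transv {κ : Type} [Fintype κ] [DecidableEq κ] (hn : 2 ≤ Fintype.card ι) (e : ι ≃ κ) (P : GL ι F) :
    ∃ g ∈ G, ∃ w ψ : κ → F, ψ ⬝ᵥ w = 0 ∧ vecMulVec w ψ ≠ 0 ∧ toCoord e P (g : Matrix ι ι F) = 1 + vecMulVec w ψ := by
  obtain ⟨v, φ, hv, hφ, hφv, hmem⟩ := exists_transv hn hf hT
  set u := ((P⁻¹ : GL ι F) : Matrix ι ι F) *ᵥ v with hu
  set χ := φ ᵥ* (P : Matrix ι ι F) with hχ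
  have hχu : χ ⬝ᵥ u = 0 := by
    rw [hχ, hu, ← dotProduct_mulVec, mulVec_mulVec, Units.mul_inv, one_mulVec, hφv]
  refine ⟨_, hmem, u ∘ e.symm, χ ∘ e.symm, ?_, fun h => ?_, ?_⟩
  · rw [← hχu]
    exact e.symm.sum_comp fun i => χ i * u i
  · have hu0 : u ≠ 0 := CfsgLib.Transvec.mulVec_ne_zero P⁻¹ hv
    obtain ⟨i, hi⟩ := Function.ne_iff.1 hu0
    have hχ0 : χ ≠ 0 := fun h0 => hφ (by
      have := congrArg (· ᵥ* ((P⁻¹ : GL ι F) : Matrix ι ι F)) h0
      simpa [hχ, vecMul_vecMul] using this)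
    obtain ⟨j, hj⟩ := Function.ne_iff.1 hχ0
    have := congrFun (congrFun h (e i)) (e j)
    simp [vecMulVec_apply] at this
    exact this.elim hi hj
  · rw [toCoord_eq_iff, transv_val hφv]
    have h1 : (1 + vecMulVec (u ∘ e.symm) (χ ∘ e.symm)).submatrix e e = 1 + vecMulVec u χ := by
      ext i j
      simp [Matrix.one_apply, vecMulVec_apply]
    rw [h1, mul_add, add_mul, mul_one, one_mul, vecMulVec_mul, mul_vecMulVec, hu, mulVec_mulVec, Units.mul_inv,
      one_mulVec]

theorem not_le_tensorProduct (hn : 2 ≤ Fintype.card ι) {a b : ℕ} (ha : 2 ≤ a) (hb : 2 ≤ b) (e : ι ≃ Fin a × Fin b)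
    (P : GL ι F) : ¬ G ≤ Cfsg.Geo.tensorProductSubgroup a b e P := by
  intro hle
  obtain ⟨g, hg, w, ψ, hdot, hne, hc⟩ := exists_coord_transv hf hT hn e P
  obtain ⟨z, ⟨A, B, hz⟩, hgz⟩ := CfsgLib.Classical22.Asch.exists_toCoord_of_mem (hle hg)
  exact hne (kronecker_ne_transv ha hb hdot (by rw [← hc, hgz, hz]))

theorem not_le_tensorSquare (hn : 2 ≤ Fintype.card ι) {m : ℕ} (hm : 3 ≤ m) (e : ι ≃ (Fin 2 → Fin m)) (P : GL ι F) :
    ¬ G ≤ Cfsg.Geo.tensorWreathSubgroup m 2 e P := by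
  classical
  intro hle
  obtain ⟨g, hg, w, ψ, hdot, hne, hc⟩ := exists_coord_transv hf hT hn e P
  obtain ⟨z, hz, hgz⟩ := CfsgLib.Classical22.Asch.exists_toCoord_of_mem (hle hg)
  obtain ⟨π, A, hzA⟩ := CfsgLib.Classical22.TensorMono.standard_form hz
  rw [hc, hzA] at hgz
  have hent : ∀ i k j l, A 0 i (![j, l] (π 0)) * A 1 k (![j, l] (π 1)) =
      (if i = j ∧ k = l then 1 else 0) + w ![i, k] * ψ ![j, l] := fun i k j l => by
    have := congrFun (congrFun hgz ![i, k]) ![j, l]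
    rw [CfsgLib.Classical22.TensorMono.wr_apply, Fin.prod_univ_two] at this
    simp only [Matrix.cons_val_zero, Matrix.cons_val_one] at this
    rw [← this, Matrix.add_apply, vecMulVec_apply, Matrix.one_apply]
    congr 1
    simp [funext_iff, Fin.forall_fin_two]
  rcases (show π 0 = 0 ∧ π 1 = 1 ∨ π 0 = 1 ∧ π 1 = 0 by
    have h1 := π.injective.ne (show (0 : Fin 2) ≠ 1 by decide)
    omega) with ⟨h0, h1⟩ | ⟨h0, h1⟩
  · -- the two factors are fixed
    simp only [h0, h1, Matrix.cons_val_zero, Matrix.cons_val_one] at hent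
    let w' : Fin m × Fin m → F := fun p => w ![p.1, p.2]
    let ψ' : Fin m × Fin m → F := fun p => ψ ![p.1, p.2]
    have hA : ∀ i : Fin 2, IsUnit (A i : Matrix (Fin m) (Fin m) F) := fun i => (A i).isUnit
    have hkr : (A 0 : Matrix (Fin m) (Fin m) F) ⊗ₖ (A 1 : Matrix (Fin m) (Fin m) F) = 1 + vecMulVec w' ψ' := by
      ext ⟨i, k⟩ ⟨j, l⟩
      simpa [Matrix.one_apply, Prod.ext_iff, vecMulVec_apply, w', ψ'] using hent i k j l
    have hdot' : ψ' ⬝ᵥ w' = 0 := by
      rw [← hdot]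
      exact (finTwoArrowEquiv (Fin m)).symm.sum_comp fun x => ψ x * w x
    have h := kronecker_ne_transv (A := A 0) (B := A 1) (by omega) (by omega) hdot' hkr
    refine hne (Matrix.ext fun x y => ?_)
    have h2 := congrFun (congrFun h (x 0, x 1)) (y 0, y 1)
    have hx : ∀ x : Fin 2 → Fin m, ![x 0, x 1] = x := fun x => by funext i; fin_cases i <;> rfl
    simpa [vecMulVec_apply, w', ψ', hx] using h2
  · -- the two factors are exchanged
    simp only [h0, h1, Matrix.cons_val_zero, Matrix.cons_val_one] at hent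
    let i : Fin m := ⟨0, by omega⟩
    let X : Matrix (Fin m) (Fin m) F := Matrix.of fun k l => A 0 i l * A 1 k i - w ![i, k] * ψ ![i, l]
    have hX : X = 1 := by
      ext k l
      simp only [X, Matrix.of_apply, Matrix.one_apply, hent i k i l]
      simp
    -- a matrix of rank two is not the identity
    let L : (Fin m → F) →ₗ[F] F × F :=
      { toFun := fun v => ((fun l => A 0 i l) ⬝ᵥ v, (fun l => ψ ![i, l]) ⬝ᵥ v)
        map_add' := fun a b => by simp [dotProduct_add]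
        map_smul' := fun a b => by simp [dotProduct_smul] }
    obtain ⟨v, hv, hv0⟩ := Submodule.exists_mem_ne_zero_of_ne_bot
      (LinearMap.ker_ne_bot_of_finrank_lt (f := L) (by simp [Module.finrank_prod]; omega))
    rw [LinearMap.mem_ker, Prod.ext_iff] at hv
    refine hv0 ?_
    rw [← Matrix.one_mulVec v, ← hX]
    funext k
    have e1 : ∑ l, A 0 i l * v l = 0 := hv.1
    have e2 : ∑ l, ψ ![i, l] * v l = 0 := hv.2
    simp only [X, Matrix.mulVec, dotProduct, Matrix.of_apply, sub_mul, Finset.sum_sub_distrib, Pi.zero_apply]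
    rw [show ∑ l, A 0 i l * A 1 k i * v l = A 1 k i * ∑ l, A 0 i l * v l by
        rw [Finset.mul_sum]; exact Finset.sum_congr rfl fun _ _ => by ring,
      show ∑ l, w ![i, k] * ψ ![i, l] * v l = w ![i, k] * ∑ l, ψ ![i, l] * v l by
        rw [Finset.mul_sum]; exact Finset.sum_congr rfl fun _ _ => by ring, e1, e2, mul_zero, mul_zero, sub_zero]

/-- The unitary transvections do not normalise a group with scalar commutators in degree at least four. -/
theorem not_le_normalizer (h4 : 4 ≤ Fintype.card ι) {R : Subgroup (GL ι F)} (hR : AbsIrr R)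
    (hcomm : ∀ x ∈ R, ∀ y ∈ R, x * y * x⁻¹ * y⁻¹ ∈ Cfsg.Geo.scalars ι F) :
    ¬ G ≤ Cfsg.Geo.subgroupNormalizer R := by
  intro hle
  haveI : Nonempty ι := Fintype.card_pos_iff.mp (by omega)
  obtain ⟨v, φ, hv, hφ, hφv, hmem⟩ := exists_transv (by omega) hf hT
  replace hmem := hle hmem
  set t := transv v φ with ht
  refine transv_ne_scalar hv hφ hφv (hR.mem_scalars fun r hr => ?_)
  change t * r = r * t
  set z := t * r * t⁻¹ * r⁻¹ with hz
  have hzR : z ∈ R := R.mul_mem ((Subgroup.mem_normalizer_iff.mp hmem r).mp hr) (R.inv_mem hr)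
  let L : (ι → F) →ₗ[F] F × F :=
    { toFun := fun w => (φ ⬝ᵥ w, φ ⬝ᵥ (((r⁻¹ : GL ι F) : Matrix ι ι F) *ᵥ w))
      map_add' := fun a b => by simp [dotProduct_add, mulVec_add]
      map_smul' := fun a b => by simp [dotProduct_smul, mulVec_smul] }
  set W := LinearMap.ker L with hW
  have hWdim : Fintype.card ι ≤ Module.finrank F W + 2 := by
    have h1 := LinearMap.finrank_range_add_finrank_ker L
    have h2 := Submodule.finrank_le (LinearMap.range L)
    rw [Module.finrank_prod, Module.finrank_self] at h2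
    rw [Module.finrank_fintype_fun_eq_card] at h1
    rw [hW]
    omega
  set rv : ι → F := (r : Matrix ι ι F) *ᵥ v with hrv
  have hzu : ∀ u, (z : Matrix ι ι F) *ᵥ u =
      u - (φ ⬝ᵥ (((r⁻¹ : GL ι F) : Matrix ι ι F) *ᵥ u)) • rv +
        (φ ⬝ᵥ (u - (φ ⬝ᵥ (((r⁻¹ : GL ι F) : Matrix ι ι F) *ᵥ u)) • rv)) • v := by
    intro u
    rw [hz, CfsgLib.Transvec.mul_mulVec, CfsgLib.Transvec.mul_mulVec, CfsgLib.Transvec.mul_mulVec, ht, transv_inv hφv,
      transv_mulVec (by rw [neg_dotProduct, hφv, neg_zero] : (-φ) ⬝ᵥ v = 0), neg_dotProduct, mulVec_add, mulVec_smul,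
      mulVec_inv_cancel, transv_mulVec hφv, ← hrv, neg_smul, ← sub_eq_add_neg]
  have hfix : ∀ w ∈ W, (z : Matrix ι ι F) *ᵥ w = w := by
    intro w hw
    rw [hW, LinearMap.mem_ker] at hw
    have hw1 : φ ⬝ᵥ w = 0 := congrArg Prod.fst hw
    have hw2 : φ ⬝ᵥ (((r⁻¹ : GL ι F) : Matrix ι ι F) *ᵥ w) = 0 := congrArg Prod.snd hw
    rw [hzu, hw2]
    simp [hw1]
  have hcen : ∀ s ∈ R, z * s = s * z := by
    intro s hs
    obtain ⟨c, hc⟩ := (Cfsg.Geo.mem_scalars_iff _).mp (hcomm z hzR s hs)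
    by_contra hne
    have hc1 : (c : F) ≠ 1 := fun h => hne (by
      have : z * s * z⁻¹ * s⁻¹ = 1 := Units.ext (by rw [hc, h, one_smul, Units.val_one])
      rwa [mul_inv_eq_one, mul_inv_eq_iff_eq_mul] at this)
    set U := W.map (Matrix.toLin' (s : Matrix ι ι F)) with hU
    have hzs : ∀ u ∈ U, (z : Matrix ι ι F) *ᵥ u = (c : F) • u := by
      rintro _ ⟨w, hw, rfl⟩
      have e : z * s = (z * s * z⁻¹ * s⁻¹) * (s * z) := by group
      rw [Matrix.toLin'_apply, ← CfsgLib.Transvec.mul_mulVec, e, CfsgLib.Transvec.mul_mulVec _ (s * z),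
        CfsgLib.Transvec.mul_mulVec s z, hfix w hw, hc, smul_mulVec, one_mulVec]
    have hUdim : Fintype.card ι ≤ Module.finrank F U + 2 := by rw [hU, CfsgLib.Transvec.finrank_map_gl]; exact hWdim
    have hUle : U ≤ Submodule.span F {rv, v} := by
      intro u hu
      have h1 : ((c : F) - 1) • u ∈ Submodule.span F ({rv, v} : Set (ι → F)) := by
        rw [sub_smul, one_smul, ← hzs u hu, hzu]
        refine Submodule.mem_span_pair.2 ⟨-(φ ⬝ᵥ (((r⁻¹ : GL ι F) : Matrix ι ι F) *ᵥ u)),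
          φ ⬝ᵥ (u - (φ ⬝ᵥ (((r⁻¹ : GL ι F) : Matrix ι ι F) *ᵥ u)) • rv), ?_⟩
        module
      exact (Submodule.smul_mem_iff _ (sub_ne_zero.2 hc1)).1 h1
    have hspan : Module.finrank F (Submodule.span F ({rv, v} : Set (ι → F))) ≤ 2 := by
      classical
      refine (finrank_span_le_card _).trans ?_
      simpa [Set.toFinset_insert] using Finset.card_le_two (a := rv) (b := v)
    have hUeq : U = Submodule.span F {rv, v} :=
      Submodule.eq_of_le_of_finrank_le hUle (hspan.trans (by omega))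
    have h1 := hzs rv (hUeq ▸ Submodule.subset_span (by simp))
    have hrr : ((r⁻¹ : GL ι F) : Matrix ι ι F) *ᵥ rv = v := by rw [hrv, inv_mulVec_cancel]
    rw [hzu, hrr, hφv] at h1
    simp only [zero_smul, sub_zero] at h1
    by_cases hd : φ ⬝ᵥ rv = 0
    · rw [hd, zero_smul, add_zero] at h1
      exact hc1 (smul_left_injective F (CfsgLib.Transvec.mulVec_ne_zero r hv) (h1.symm.trans (one_smul F _).symm))
    · have hvr : v = (((c : F) - 1) / (φ ⬝ᵥ rv)) • rv := by
        rw [div_eq_inv_mul, mul_smul, sub_smul, one_smul, ← h1, add_sub_cancel_left, smul_smul, inv_mul_cancel₀ hd,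
          one_smul]
      have h0 : φ ⬝ᵥ v = (c : F) - 1 := by
        rw [hvr, dotProduct_smul, smul_eq_mul, div_mul_cancel₀ _ hd]
      exact hc1 (sub_eq_zero.1 (h0.symm.trans hφv))
  obtain ⟨c, hc⟩ := (Cfsg.Geo.mem_scalars_iff _).mp (hR.mem_scalars hcen)
  obtain ⟨w, hw, hw0⟩ : ∃ w ∈ W, w ≠ 0 := Submodule.exists_mem_ne_zero_of_ne_bot fun h => by
    rw [h, finrank_bot] at hWdim; omega
  have h1 := hfix w hw
  rw [hc, smul_mulVec, one_mulVec] at h1
  have hz1 : z = 1 := Units.ext (by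
    rw [hc, smul_left_injective F hw0 (h1.trans (one_smul F w).symm), one_smul, Units.val_one])
  rwa [hz, mul_inv_eq_one, mul_inv_eq_iff_eq_mul] at hz1

end CfsgLib.AschUList
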