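import Cfsg.Agent.Lib.Aschbacher.UnitaryMain
import Cfsg.Agent.Lib.Techniques.AschPrime.SL
import Cfsg.Agent.Lib.Techniques.AschPrimeU.Main
import Cfsg.Agent.Lib.Techniques.AschSL.Main
import Cfsg.Agent.Lib.AschUList.Proper
import Cfsg.Agent.Lib.AschUList.SympType

/-!
# Maximal subgroups of the special unitary groups of degree between four and twenty-four
-/

set_option autoImplicit false

namespace CfsgLib.AschUList

open Matrix CfsgLib.Transvec CfsgLib.Transvec.Unitary CfsgLib.Techniques.AschPrime CfsgLib.Techniques.AschPrimeU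
open scoped MatrixGroups

/-- The special unitary group inside the general linear group. -/
abbrev su (n : ℕ) (F : Type*) [Field F] [Fintype F] (q : ℕ) : Subgroup (GL (Fin n) F) :=
  Cfsg.GU n F q ⊓ Cfsg.Geo.specialLinear (Fin n) F

variable {F : Type*} [Field F] [Fintype F] {q : ℕ}

theorem eq_pow_of_card {p e : ℕ} (hp : p.Prime) (hF : Fintype.card F = q ^ 2) (hcard : Fintype.card F = p ^ e) :
    ∃ d, q = p ^ d ∧ e = 2 * d := by
  obtain ⟨d, -, hd⟩ := (Nat.dvd_prime_pow hp).1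
    (show q ∣ p ^ e by rw [← hcard, hF]; exact dvd_pow_self q two_ne_zero)
  refine ⟨d, hd, Nat.pow_right_injective hp.two_le ?_⟩
  change p ^ e = p ^ (2 * d)
  rw [← hcard, hF, hd, ← pow_mul, mul_comm]

/-- The minimal field conditions pin down `q` for symplectic type with prime two or three. -/
theorem minimal_field_small {z p e r : ℕ} (hF : Fintype.card F = q ^ 2) (hrp : r ≠ p)
    (hmin : Cfsg.Geo.IsMinimalFieldFor z p e F) (h : (r = 2 ∧ z = 4) ∨ (r = 3 ∧ z = 3)) :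
    (r = 2 → q = p ∧ p % 4 = 3) ∧ (r = 3 → q = p ∧ p % 3 = 2) := by
  obtain ⟨hp, -, hcard, hdiv, hno⟩ := hmin
  obtain ⟨d, hqd, rfl⟩ := eq_pow_of_card hp hF hcard
  have hd0 : 0 < d := by
    by_contra h0
    have := one_lt_of_card_sq hF
    rw [Nat.eq_zero_of_not_pos h0, pow_zero] at hqd
    omega
  have hp2 := hp.two_le
  have hsq : z ∣ p ^ 2 - 1 := by
    rcases h with ⟨rfl, rfl⟩ | ⟨rfl, rfl⟩
    · have hodd : p % 2 = 1 := hp.eq_two_or_odd.resolve_left (Ne.symm hrp)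
      obtain ⟨a, rfl⟩ : ∃ a, p = 2 * a + 1 := ⟨p / 2, by omega⟩
      exact ⟨a * a + a, by rw [show (2 * a + 1) ^ 2 = 4 * (a * a + a) + 1 by ring, Nat.add_sub_cancel]⟩
    · have h3 : ¬ 3 ∣ p := fun h => hrp ((Nat.prime_dvd_prime_iff_eq Nat.prime_three hp).mp h)
      have : p ^ 2 % 3 = 1 := by
        rw [Nat.pow_mod]
        rcases (show p % 3 = 1 ∨ p % 3 = 2 by omega) with h' | h' <;> rw [h'] <;> rfl
      omega
  obtain rfl : d = 1 := by
    by_contra hd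
    exact hno 2 two_pos (by omega) hsq
  have hno1 := hno 1 one_pos (by norm_num)
  rw [pow_one] at hno1 hqd
  refine ⟨fun h2 => ⟨hqd, ?_⟩, fun h3 => ⟨hqd, ?_⟩⟩
  · subst h2
    have hodd : p % 2 = 1 := hp.eq_two_or_odd.resolve_left (Ne.symm hrp)
    rcases h with ⟨-, rfl⟩ | ⟨h, -⟩ <;> omega
  · subst h3
    have h3 : ¬ 3 ∣ p := fun h => hrp ((Nat.prime_dvd_prime_iff_eq Nat.prime_three hp).mp h)
    rcases h with ⟨h, -⟩ | ⟨-, rfl⟩ <;> omega

theorem finrank_decomposition {n t k : ℕ} {D : Fin t → Submodule F (Fin n → F)} (hD : Cfsg.Geo.IsMDecomposition k D) :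
    t * k = n := by
  have h := CfsgLib.Techniques.AschPrime.finrank_iSup_eq_sum D hD.indep hD.iSup_eq_top
  simpa [hD.finrank_eq] using h

/-- The unitary transvections lie in the special unitary group. -/
theorem exists_setting {n : ℕ} (hF : Fintype.card F = q ^ 2) :
    ∃ σ : F ≃+* F, Cfsg.Geo.IsUnitaryForm σ (Cfsg.hermForm n F q) ∧
      ∀ v, Cfsg.hermForm n F q v v = 0 → ∀ c, c + σ c = 0 → uT (Cfsg.hermForm n F q) v c ∈ su n F q := by
  obtain ⟨σ, hσ, hinv, hne⟩ := exists_frob hF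
  exact ⟨σ, isUnitaryForm_hermForm hσ hinv hne, fun v hv c hc => uT_mem_SU hσ hinv hne hv hc⟩

section members

variable {n : ℕ} (hn : 4 ≤ n) (hF : Fintype.card F = q ^ 2) {H : Subgroup (GL (Fin n) F)}
  (hH : Cfsg.Geo.IsMaximalIn (su n F q) H)

include hn hF hH

theorem eq_subspace {W : Submodule F (Fin n → F)} (h0 : W ≠ ⊥) (h1 : W ≠ ⊤) (hle : H ≤ Cfsg.Geo.subspaceStabilizer W) :
    H = Cfsg.Geo.subspaceStabilizer W ⊓ su n F q := by
  obtain ⟨σ, hf, hT⟩ := exists_setting (n := n) hF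
  exact eq_inf_of_le hH hle (not_le_subspaceStabilizer hf hT (by rw [Fintype.card_fin]; omega) h0 h1)

theorem eq_lines {D : Fin n → Submodule F (Fin n → F)}
    (hD : Cfsg.Geo.IsNondegenerateMDecomposition (Cfsg.hermForm n F q) 1 D)
    (hle : H ≤ Cfsg.Geo.decompositionStabilizer D) : H = Cfsg.Geo.decompositionStabilizer D ⊓ su n F q := by
  obtain ⟨σ, hf, hT⟩ := exists_setting (n := n) hF
  exact eq_inf_of_le hH hle (not_le_decompositionStabilizer hf hT hD (by rw [Fintype.card_fin]; omega)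
    (Or.inr (by rw [Fintype.card_fin]; omega)))

theorem eq_blocks {t k : ℕ} (hk : 2 ≤ k) {D : Fin t → Submodule F (Fin n → F)} (hD : Cfsg.Geo.IsMDecomposition k D)
    (hle : H ≤ Cfsg.Geo.decompositionStabilizer D) : H = Cfsg.Geo.decompositionStabilizer D ⊓ su n F q := by
  obtain ⟨σ, hf, hT⟩ := exists_setting (n := n) hF
  exact eq_inf_of_le hH hle (not_le_blocks hf hT hD hk (by rw [Fintype.card_fin]; omega))

theorem eq_subfield {F₀ : Subfield F} {r : ℕ} (hr : 2 ≤ r) (hcard : Fintype.card F = Nat.card F₀ ^ r)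
    {P : GL (Fin n) F} (hle : H ≤ Cfsg.Geo.subfieldSubgroup F₀ P) :
    H = Cfsg.Geo.subfieldSubgroup F₀ P ⊓ su n F q := by
  obtain ⟨σ, hf, hT⟩ := exists_setting (n := n) hF
  refine eq_inf_of_le hH hle (not_le_subfieldSubgroup hf hT (by rw [Fintype.card_fin]; omega) (fun htop => ?_) P)
  rw [htop, Nat.card_congr (Equiv.subtypeUnivEquiv fun x => Subfield.mem_top x), Nat.card_eq_fintype_card] at hcard
  exact (show 1 < r by omega).ne' ((Nat.pow_eq_self_iff Fintype.one_lt_card).mp hcard.symm)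

theorem eq_normalizer {R : Subgroup (GL (Fin n) F)} (hR : AbsIrr R)
    (hcomm : ∀ x ∈ R, ∀ y ∈ R, x * y * x⁻¹ * y⁻¹ ∈ Cfsg.Geo.scalars (Fin n) F)
    (hle : H ≤ Cfsg.Geo.subgroupNormalizer R) : H = Cfsg.Geo.subgroupNormalizer R ⊓ su n F q := by
  obtain ⟨σ, hf, hT⟩ := exists_setting (n := n) hF
  exact eq_inf_of_le hH hle (not_le_normalizer hf hT (by rw [Fintype.card_fin]; omega) hR hcomm)

/-- The maximal subgroups of the special unitary group. -/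
theorem su_max_gen (hn25 : n < 25) :
    (∃ W : Submodule F (Fin n → F), W ≠ ⊥ ∧ Cfsg.Geo.IsTotallySingularFor (Cfsg.hermForm n F q) W ∧
      H = Cfsg.Geo.subspaceStabilizer W ⊓ su n F q) ∨
    (∃ W : Submodule F (Fin n → F), W ≠ ⊥ ∧ Cfsg.Geo.IsNondegenerateOn (Cfsg.hermForm n F q) W ∧
      2 * Module.finrank F W < n ∧ H = Cfsg.Geo.subspaceStabilizer W ⊓ su n F q) ∨
    (∃ (t k : ℕ) (D : Fin t → Submodule F (Fin n → F)), 2 ≤ t ∧ t * k = n ∧
      Cfsg.Geo.IsNondegenerateMDecomposition (Cfsg.hermForm n F q) k D ∧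
      H = Cfsg.Geo.decompositionStabilizer D ⊓ su n F q) ∨
    (∃ (k : ℕ) (D : Fin 2 → Submodule F (Fin n → F)), 2 * k = n ∧ Cfsg.Geo.IsMDecomposition k D ∧
      (∀ i, Cfsg.Geo.IsTotallySingularFor (Cfsg.hermForm n F q) (D i)) ∧
      H = Cfsg.Geo.decompositionStabilizer D ⊓ su n F q) ∨
    (∃ (r : ℕ) (K : Subalgebra F (Matrix (Fin n) (Fin n) F)), r.Prime ∧ Odd r ∧ r ∣ n ∧
      Cfsg.Geo.IsFieldSubalgebra r K ∧ Cfsg.Geo.IsAdjointClosedFor (Cfsg.hermForm n F q) K ∧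
      H = Cfsg.Geo.subalgebraNormalizer K ⊓ su n F q) ∨
    (∃ (n₁ n₂ : ℕ) (e : Fin n ≃ Fin n₁ × Fin n₂) (P : GL (Fin n) F) (f₁ : (Fin n₁ → F) → (Fin n₁ → F) → F)
      (f₂ : (Fin n₂ → F) → (Fin n₂ → F) → F), 2 ≤ n₁ ∧ n₁ < n₂ ∧ n₁ * n₂ = n ∧ Cfsg.Geo.IsUnitaryFormPow q f₁ ∧
      Cfsg.Geo.IsUnitaryFormPow q f₂ ∧
      Cfsg.Geo.IsTensorFormStructure (fun x : F => x ^ q) (Cfsg.hermForm n F q) f₁ f₂ e P ∧
      H = Cfsg.Geo.tensorProductSubgroup n₁ n₂ e P ⊓ su n F q) ∨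
    (∃ (F₀ : Subfield F) (r : ℕ) (P : GL (Fin n) F), r.Prime ∧ Odd r ∧ Fintype.card F = Nat.card F₀ ^ r ∧
      Cfsg.Geo.IsFormRationalStructure (Cfsg.hermForm n F q) F₀ 1 P ∧
      H = Cfsg.Geo.subfieldSubgroup F₀ P ⊓ su n F q) ∨
    (∃ (F₀ : Subfield F) (P : GL (Fin n) F) (ζ : F), Even n ∧ Fintype.card F = Nat.card F₀ ^ 2 ∧ ζ ≠ 0 ∧
      ζ + ζ ^ q = 0 ∧ Cfsg.Geo.IsFormRationalStructure (Cfsg.hermForm n F q) F₀ ζ P ∧
      (∀ u : Fin n → F, (∀ i, u i ∈ F₀) →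
        Cfsg.hermForm n F q ((P : Matrix (Fin n) (Fin n) F) *ᵥ u) ((P : Matrix (Fin n) (Fin n) F) *ᵥ u) = 0) ∧
      H = Cfsg.Geo.subfieldSubgroup F₀ P ⊓ su n F q) ∨
    (Odd q ∧ ∃ (F₀ : Subfield F) (P : GL (Fin n) F), Fintype.card F = Nat.card F₀ ^ 2 ∧
      Cfsg.Geo.IsFormRationalStructure (Cfsg.hermForm n F q) F₀ 1 P ∧
      H = Cfsg.Geo.subfieldSubgroup F₀ P ⊓ su n F q) ∨
    (∃ (r m p : ℕ) (R : Subgroup (GL (Fin n) F)), r.Prime ∧ p.Prime ∧ n = r ^ m ∧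
      (r = 2 → q = p ∧ p % 4 = 3) ∧ (r = 3 → q = p ∧ p % 3 = 2) ∧
      Cfsg.Geo.IsSymplecticTypeGroup r R ∧ Cfsg.Geo.ActsAbsolutelyIrreducibly (Cfsg.Geo.matrixSet R) ∧
      R ≤ Cfsg.Geo.similarityGroup (Cfsg.hermForm n F q) ∧
      Nat.card R = r * Nat.gcd 2 r * r ^ (2 * m) ∧ Nat.card (Subgroup.center R) = r * Nat.gcd 2 r ∧
      H = Cfsg.Geo.subgroupNormalizer R ⊓ su n F q) ∨
    (∃ (k : ℕ) (e : Fin n ≃ (Fin 2 → Fin k)) (P : GL (Fin n) F) (f₁ : (Fin k → F) → (Fin k → F) → F),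
      3 ≤ k ∧ k ^ 2 = n ∧ ¬ (q = 2 ∧ k = 3) ∧ Cfsg.Geo.IsUnitaryFormPow q f₁ ∧
      Cfsg.Geo.IsTensorPowerFormStructure (fun x : F => x ^ q) (Cfsg.hermForm n F q) f₁ e P ∧
      H = Cfsg.Geo.tensorWreathSubgroup k 2 e P ⊓ su n F q) ∨
    Cfsg.Geo.InUnitaryResidualClass H := by
  classical
  obtain ⟨σ₀, hσ₀⟩ := CfsgLib.Aschbacher.exists_qAut hF
  obtain ⟨σ, hf, hT⟩ := exists_setting (n := n) hF
  haveI : Nonempty (Fin n) := ⟨⟨0, by omega⟩⟩
  have hc : 4 ≤ Fintype.card (Fin n) := by rw [Fintype.card_fin]; omega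
  rcases CfsgLib.Aschbacher.unitary_main hσ₀ (by omega) H (hH.1.le.trans inf_le_left) with ⟨M, hM, hle⟩ | h
  swap
  · exact Or.inr (Or.inr (Or.inr (Or.inr (Or.inr (Or.inr (Or.inr (Or.inr (Or.inr (Or.inr (Or.inr h))))))))))
  rcases hM with (⟨W, h0, hW, rfl⟩ | ⟨W, h0, hW, hdim, rfl⟩ | ⟨t, k, D, hD, rfl⟩ | ⟨k, D, hk, hD, hTI, rfl⟩ |
    ⟨F₀, r, P, hr, hodd, hcard, hP, rfl⟩ | ⟨F₀, P, hq, hcard, hP, rfl⟩ |
    ⟨F₀, P, ζ, hev, hcard, hζ, hζ', hP, hiso, rfl⟩ | ⟨r, R, p, e, k, hS, habs, hsim, hrp, hmin, hcase, rfl⟩) |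
    ⟨r, K, hr, hodd, hK, hadj, rfl⟩ | ⟨n₁, n₂, e, P, f₁, f₂, h1, h2, hf₁, hf₂, hP, rfl⟩ |
    ⟨k, t, e, P, f₁, hk, ht, hqk, hf₁, hP, rfl⟩
  · refine Or.inl ⟨W, h0, hW, eq_subspace hn hF hH h0 (fun h => ?_) (hle.trans inf_le_left)⟩
    obtain ⟨v, hv⟩ : ∃ v : Fin n → F, v ≠ 0 := exists_ne 0
    obtain ⟨w, hw⟩ := (hf.nondegenerate v hv).1
    exact hw (hW _ (h ▸ Submodule.mem_top) _ (h ▸ Submodule.mem_top))
  · refine Or.inr (Or.inl ⟨W, h0, hW, hdim, eq_subspace hn hF hH h0 (fun h => ?_) (hle.trans inf_le_left)⟩)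
    rw [h, finrank_top, Module.finrank_fintype_fun_eq_card, Fintype.card_fin] at hdim
    omega
  · refine Or.inr (Or.inr (Or.inl ⟨t, k, D, hD.decomp.two_le, finrank_decomposition hD.decomp, hD, ?_⟩))
    rcases Nat.lt_or_ge k 2 with hk | hk
    · obtain rfl : k = 1 := by have := hD.decomp.pos; omega
      obtain rfl : t = n := by simpa using finrank_decomposition hD.decomp
      exact eq_lines hn hF hH hD (hle.trans inf_le_left)
    · exact eq_blocks hn hF hH hk hD.decomp (hle.trans inf_le_left)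
  · exact Or.inr (Or.inr (Or.inr (Or.inl ⟨k, D, hk, hD, hTI,
      eq_blocks hn hF hH (by omega) hD (hle.trans inf_le_left)⟩)))
  · exact Or.inr (Or.inr (Or.inr (Or.inr (Or.inr (Or.inr (Or.inl ⟨F₀, r, P, hr, hodd, hcard, hP,
      eq_subfield hn hF hH hr.two_le hcard (hle.trans inf_le_left)⟩))))))
  · exact Or.inr (Or.inr (Or.inr (Or.inr (Or.inr (Or.inr (Or.inr (Or.inr (Or.inl ⟨hq, F₀, P, hcard, hP,
      eq_subfield hn hF hH le_rfl hcard (hle.trans inf_le_left)⟩))))))))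
  · exact Or.inr (Or.inr (Or.inr (Or.inr (Or.inr (Or.inr (Or.inr (Or.inl ⟨F₀, P, ζ, hev, hcard, hζ, hζ', hP, hiso,
      eq_subfield hn hF hH le_rfl hcard (hle.trans inf_le_left)⟩)))))))
  · have hkc : Nat.card (Subgroup.center R) = r * Nat.gcd 2 r := by
      rcases hcase with ⟨ho, h, -⟩ | ⟨rfl, -, h, -⟩
      · rw [h, (Nat.coprime_two_left.mpr ho).gcd_eq_one, mul_one]
      · rw [h, Nat.gcd_self]
    obtain ⟨m, hm, hcardR, hcomm⟩ := sympType_degree hS habs hkc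
    rw [Fintype.card_fin] at hm
    refine Or.inr (Or.inr (Or.inr (Or.inr (Or.inr (Or.inr (Or.inr (Or.inr (Or.inr (Or.inl ⟨r, m, p, R, hS.prime,
      hmin.1, hm, fun h2 => ?_, fun h3 => ?_, hS, habs, hsim, hcardR, hkc,
      eq_normalizer hn hF hH habs hcomm (hle.trans inf_le_left)⟩)))))))))
    · exact (minimal_field_small hF hrp hmin (Or.inl ⟨h2, by rw [hkc, h2]; rfl⟩)).1 h2
    · exact (minimal_field_small hF hrp hmin (Or.inr ⟨h3, by rw [hkc, h3]; rfl⟩)).2 h3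
  · exact Or.inr (Or.inr (Or.inr (Or.inr (Or.inl ⟨r, K, hr, hodd, CfsgLib.Techniques.AschSL.dvd_of_field hK (by omega),
      hK, hadj, eq_inf_of_le hH (hle.trans inf_le_left) (not_le_subalgebraNormalizer hf hT (by omega) hK hr.one_lt)⟩))))
  · refine Or.inr (Or.inr (Or.inr (Or.inr (Or.inr (Or.inl ⟨n₁, n₂, e, P, f₁, f₂, h1, h2, ?_, hf₁, hf₂, hP,
      eq_inf_of_le hH (hle.trans inf_le_left) (not_le_tensorProduct hf hT (by omega) h1 (by omega) e P)⟩)))))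
    simpa using (Fintype.card_congr e).symm
  · have hcard : k ^ t = n := by simpa using (Fintype.card_congr e).symm
    obtain rfl : t = 2 := by
      by_contra h
      have h3 : k ^ 3 ≤ k ^ t := Nat.pow_le_pow_right (by omega) (by omega)
      have : 3 ^ 3 ≤ k ^ 3 := Nat.pow_le_pow_left hk 3
      omega
    exact Or.inr (Or.inr (Or.inr (Or.inr (Or.inr (Or.inr (Or.inr (Or.inr (Or.inr (Or.inr (Or.inl ⟨k, e, P, f₁, hk,
      hcard, hqk, hf₁, hP,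
      eq_inf_of_le hH (hle.trans inf_le_left) (not_le_tensorSquare hf hT (by omega) hk e P)⟩))))))))))

end members

end CfsgLib.AschUList
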