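import Cfsg.Agent.Lib.Aschbacher.UnitarySubfield
import Cfsg.Agent.Lib.AschUList.Main

/-!
# Pairs of totally isotropic planes over at most nine elements
-/

set_option autoImplicit false
set_option maxHeartbeats 1000000

namespace CfsgLib.AschUList

open Matrix CfsgLib.Aschbacher
open scoped MatrixGroups

variable {F : Type*} [Field F] [Fintype F] {q : ℕ} {σ : F ≃+* F}

/-- The alternating form of a plane. -/
abbrev jTwo : Matrix (Fin 2) (Fin 2) F := !![0, 1; -1, 0]

omit [Fintype F] in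
theorem transpose_jTwo_mul (A : Matrix (Fin 2) (Fin 2) F) : Aᵀ * jTwo * A = A.det • jTwo := by
  ext i j
  fin_cases i <;> fin_cases j <;> simp [Matrix.mul_apply, Fin.sum_univ_two, Matrix.det_fin_two] <;> ring

omit [Fintype F] in
theorem det_swap_four : (fromBlocks (0 : Matrix (Fin 2) (Fin 2) F) (1 : Matrix (Fin 2) (Fin 2) F)
    (1 : Matrix (Fin 2) (Fin 2) F) 0).det = 1 := by
  rw [show fromBlocks (0 : Matrix (Fin 2) (Fin 2) F) (1 : Matrix (Fin 2) (Fin 2) F) (1 : Matrix (Fin 2) (Fin 2) F) 0 =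
    fromBlocks (1 : Matrix (Fin 2) (Fin 2) F) (1 : Matrix (Fin 2) (Fin 2) F) 0 1 *
      fromBlocks (1 : Matrix (Fin 2) (Fin 2) F) 0 (-1 : Matrix (Fin 2) (Fin 2) F) 1 *
      fromBlocks (1 : Matrix (Fin 2) (Fin 2) F) (1 : Matrix (Fin 2) (Fin 2) F) 0 1 *
      fromBlocks (-1 : Matrix (Fin 2) (Fin 2) F) 0 0 (1 : Matrix (Fin 2) (Fin 2) F) by simp [fromBlocks_multiply],
    det_mul, det_mul, det_mul, det_fromBlocks_zero₂₁, det_fromBlocks_zero₁₂, det_fromBlocks_zero₂₁]
  simp [det_neg]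

omit [Fintype F] in
theorem alt_diag {κ : Type} [Fintype κ] (X : Matrix (Fin 2 ⊕ Fin 2) κ F) (i : κ) :
    (Xᵀ * (fromBlocks jTwo 0 0 jTwo : Matrix (Fin 2 ⊕ Fin 2) (Fin 2 ⊕ Fin 2) F) * X) i i = 0 := by
  simp only [Matrix.mul_apply, Fintype.sum_sum_type, Fin.sum_univ_two, Matrix.transpose_apply, fromBlocks_apply₁₁,
    fromBlocks_apply₁₂, fromBlocks_apply₂₁, fromBlocks_apply₂₂, Matrix.zero_apply, jTwo, Matrix.of_apply,
    Matrix.cons_val', Matrix.cons_val_zero, Matrix.cons_val_one, Matrix.empty_val']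
  ring

/-- The monomial similitude data of the two blocks. -/
theorem block_similitude (hq : q ≤ 3) (hσ : QAut q σ) {A C : Matrix (Fin 2) (Fin 2) F}
    (h : Aᵀ * C.map σ = 1) (hdet : A.det * C.det = 1) :
    A.det = C.det ∧ A.det ≠ 0 := by
  have h1 : A.det * σ C.det = 1 := by
    have := congrArg Matrix.det h
    rwa [det_mul, det_transpose, det_one, show (C.map σ).det = σ C.det from (σ.toRingHom.map_det C).symm] at this
  have ha : A.det ≠ 0 := left_ne_zero_of_mul_eq_one hdet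
  have hc : C.det ≠ 0 := right_ne_zero_of_mul_eq_one hdet
  have hfix : σ C.det = C.det := mul_left_cancel₀ ha (h1.trans hdet.symm)
  have h2 : C.det ^ 2 = 1 := by
    have hq2 : 1 < q := CfsgLib.Techniques.AschPrimeU.one_lt_of_card_sq hσ.card
    have h3 : C.det ^ q = C.det := by rw [← hσ.apply, hfix]
    rcases (show q = 2 ∨ q = 3 by omega) with rfl | rfl
    · rw [h3, mul_left_cancel₀ hc (show C.det * C.det = C.det * 1 by rw [mul_one, ← sq, h3])]
    · exact mul_left_cancel₀ hc (by rw [mul_one, ← pow_succ', h3])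
  refine ⟨mul_right_cancel₀ hc ?_, ha⟩
  rw [hdet, ← sq, h2]

/-- The stabiliser of two totally isotropic planes preserves an alternating form up to scalars. -/
theorem ti_refine (hσ : QAut q σ) (hq : q ≤ 3) {D : Fin 2 → Submodule F (Fin 4 → F)}
    (hD : Cfsg.Geo.IsMDecomposition 2 D)
    (hTI : ∀ i, Cfsg.Geo.IsTotallySingularFor (Cfsg.hermForm 4 F q) (D i)) :
    ∃ B : Matrix (Fin 4) (Fin 4) F, IsUnit B ∧ Bᵀ = (-1 : F) • B ∧ (∀ i, B i i = 0) ∧
      B * B.map σ = (-1 : F) • (1 : Matrix (Fin 4) (Fin 4) F) ∧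
      ∀ g : GL (Fin 4) F, g ∈ Cfsg.GU 4 F q → g ∈ Cfsg.Geo.specialLinear (Fin 4) F →
        g ∈ Cfsg.Geo.decompositionStabilizer D → g ∈ Cfsg.Geo.similarityGroup (gf (RingHom.id F) B) := by
  classical
  set f := Cfsg.hermForm 4 F q with hfdef
  have hf : ∀ u v : Fin 4 → F, f u v = ∑ i, u i * σ (v i) := fun u v => by
    simp [hfdef, Cfsg.hermForm, hσ.apply]
  have hflip : ∀ u v, f u v = 0 → f v u = 0 := fun u v h => by
    rw [hf] at h ⊢
    have := congrArg σ h
    simpa [map_sum, hσ.invol, mul_comm] using this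
  let b := Module.finBasisOfFinrankEq F (D 0) (hD.finrank_eq 0)
  let e : Fin 2 → Fin 4 → F := fun i => (b i : Fin 4 → F)
  have he : ∀ i, e i ∈ D 0 := fun i => (b i).2
  let L : D 1 →ₗ[F] (Fin 2 → F) :=
    { toFun := fun y i => f (y : Fin 4 → F) (e i)
      map_add' := fun x y => funext fun i => by simp [hf, add_mul, Finset.sum_add_distrib]
      map_smul' := fun c x => funext fun i => by simp [hf, mul_assoc, Finset.mul_sum] }
  have hinj : Function.Injective L := (injective_iff_map_eq_zero L).2 fun y hy => by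
    refine Subtype.ext (funext fun k => ?_)
    let N : (Fin 4 → F) →ₛₗ[σ.toRingHom] F :=
      { toFun := fun x => f (y : Fin 4 → F) x
        map_add' := fun a c => by simp [hf, mul_add, Finset.sum_add_distrib]
        map_smul' := fun c a => by simp [hf, Finset.mul_sum, mul_left_comm] }
    have hN : LinearMap.ker N = ⊤ := by
      rw [eq_top_iff, ← hD.iSup_eq_top, iSup_le_iff]
      intro i
      fin_cases i
      · intro x hx
        obtain ⟨c, hc⟩ : ∃ c : Fin 2 → F, ∑ j, c j • e j = x :=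
          ⟨fun j => b.repr ⟨x, hx⟩ j, by
            have h := congrArg Subtype.val (b.sum_repr ⟨x, hx⟩)
            rw [Submodule.coe_sum] at h
            exact h⟩
        rw [← hc]
        refine Submodule.sum_mem _ fun j _ => Submodule.smul_mem _ _ ?_
        exact congrFun hy j
      · exact fun x hx => hTI 1 _ y.2 _ hx
    have h1 : f (y : Fin 4 → F) (Pi.single k 1) = 0 :=
      LinearMap.mem_ker.1 (show Pi.single k 1 ∈ LinearMap.ker N from hN ▸ Submodule.mem_top)
    simpa [hf, Pi.single_apply, apply_ite σ] using h1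
  have hsur : Function.Surjective L := (LinearMap.injective_iff_surjective_of_finrank_eq_finrank
    (by rw [hD.finrank_eq, Module.finrank_fintype_fun_eq_card, Fintype.card_fin])).1 hinj
  choose w hw using fun j => hsur (Pi.single j 1)
  have hwe : ∀ i j, f (w j : Fin 4 → F) (e i) = (Pi.single j 1 : Fin 2 → F) i := fun i j => congrFun (hw j) i
  let col : Fin 2 ⊕ Fin 2 → Fin 4 → F := Sum.elim e (fun j => (w j : Fin 4 → F))
  let M : Matrix (Fin 4) (Fin 2 ⊕ Fin 2) F := Matrix.of fun i c => col c i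
  let S : Matrix (Fin 2 ⊕ Fin 2) (Fin 2 ⊕ Fin 2) F := fromBlocks 0 1 1 0
  have hMS : Mᵀ * M.map σ = S := by
    refine Matrix.ext fun c d => ?_
    rw [show (Mᵀ * M.map σ) c d = f (col c) (col d) by simp [hf, Matrix.mul_apply, M]]
    rcases c with c | c <;> rcases d with d | d <;> simp only [col, Sum.elim_inl, Sum.elim_inr]
    · rw [hTI 0 _ (he c) _ (he d)]; simp [S]
    · have h := hwe c d
      simp only [Pi.single_apply] at h
      by_cases hcd : c = d
      · subst hcd
        rw [if_pos rfl, hf] at h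
        have := congrArg σ h
        simpa [hf, S, map_sum, hσ.invol, mul_comm] using this
      · rw [if_neg hcd] at h
        simpa [S, hcd] using hflip _ _ h
    · rw [hwe]; simp [S, Pi.single_apply, Matrix.one_apply, eq_comm]
    · rw [hTI 1 _ (w c).2 _ (w d).2]; simp [S]
  have hSS : S * S = 1 := by simp [S, fromBlocks_multiply]
  have hSt : Sᵀ = S := by simp [S, fromBlocks_transpose]
  have hSσ : S.map σ = S := by
    ext c d; rcases c with c | c <;> rcases d with d | d <;> by_cases hcd : c = d <;> simp [S, hcd]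
  let Mi : Matrix (Fin 2 ⊕ Fin 2) (Fin 4) F := S * (M.map σ)ᵀ
  have hMiM : Mi * M = 1 := by
    rw [show Mi * M = S * ((M.map σ)ᵀ * M) from Matrix.mul_assoc _ _ _,
      show (M.map σ)ᵀ * M = (Mᵀ * M.map σ)ᵀ by rw [transpose_mul, transpose_transpose], hMS, hSt, hSS]
  have hMMi : M * Mi = 1 := (Matrix.mul_eq_one_comm_of_equiv finSumFinEquiv.symm).2 hMiM
  let B' : Matrix (Fin 2 ⊕ Fin 2) (Fin 2 ⊕ Fin 2) F := fromBlocks jTwo 0 0 jTwo
  let B : Matrix (Fin 4) (Fin 4) F := Miᵀ * B' * Mi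
  have hMit : Miᵀ = M.map σ * S := by simp [Mi, transpose_mul, hSt]
  have hMiσ : Mi.map σ = S * Mᵀ := by
    simp only [Mi, Matrix.map_mul, hSσ]
    congr 1
    ext; simp [hσ.invol]
  have hB'σ : B'.map σ = B' := by
    ext c d
    rcases c with c | c <;> rcases d with d | d <;> fin_cases c <;> fin_cases d <;> simp [B', jTwo]
  have hBSB : B' * S * B' = -S := by
    simp only [B', S, fromBlocks_multiply, fromBlocks_neg]
    ext c d
    rcases c with c | c <;> rcases d with d | d <;> fin_cases c <;> fin_cases d <;>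
      simp [Matrix.mul_apply, Fin.sum_univ_two, jTwo]
  have hBB : B * B.map σ = (-1 : F) • (1 : Matrix (Fin 4) (Fin 4) F) := by
    have h1 : B.map σ = (Miᵀ).map σ * B' * Mi.map σ := by simp only [B, Matrix.map_mul, hB'σ]
    have h2 : Mi * (Miᵀ).map σ = S := by
      rw [hMit, Matrix.map_mul, hSσ, show (M.map σ).map σ = M by ext; simp [hσ.invol], ← Matrix.mul_assoc, hMiM,
        Matrix.one_mul]
    calc B * B.map σ = Miᵀ * (B' * (Mi * (Miᵀ).map σ) * B') * Mi.map σ := by
          rw [h1]; simp only [B, Matrix.mul_assoc]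
      _ = -(M.map σ * (S * S) * (S * Mᵀ)) := by
          rw [h2, hBSB, hMit, hMiσ]; simp only [Matrix.mul_neg, Matrix.neg_mul, Matrix.mul_assoc]
      _ = (-1 : F) • (1 : Matrix (Fin 4) (Fin 4) F) := by
          rw [hSS, Matrix.mul_one, neg_one_smul]
          congr 1
          have h3 : (M * Mi).map σ = 1 := by rw [hMMi, Matrix.map_one σ (map_zero σ) (map_one σ)]
          rwa [Matrix.map_mul, hMiσ] at h3
  refine ⟨B, ?_, ?_, ?_, hBB, fun g hgu hgs hgD => ?_⟩
  · exact IsUnit.of_mul_eq_one (-(B.map σ)) (by rw [Matrix.mul_neg, hBB, neg_one_smul, neg_neg])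
  · have : B'ᵀ = -B' := by
      ext c d
      rcases c with c | c <;> rcases d with d | d <;> fin_cases c <;> fin_cases d <;> simp [B', jTwo]
    simp [B, transpose_mul, this, Matrix.mul_assoc]
  · exact fun i => alt_diag Mi i
  -- an element of the stabiliser in coordinates
  obtain ⟨π, hπ⟩ := hgD
  set G' : Matrix (Fin 2 ⊕ Fin 2) (Fin 2 ⊕ Fin 2) F := Mi * (g : Matrix (Fin 4) (Fin 4) F) * M with hG'
  have hgM : (g : Matrix (Fin 4) (Fin 4) F) * M = M * G' := by
    rw [hG', ← Matrix.mul_assoc, ← Matrix.mul_assoc, hMMi, Matrix.one_mul]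
  have hentry : ∀ c d, G' c d = f ((g : Matrix (Fin 4) (Fin 4) F) *ᵥ col d) (col c.swap) := by
    intro c d
    rw [hG', Matrix.mul_assoc, show Mi = S * (M.map σ)ᵀ from rfl, Matrix.mul_assoc, hf]
    rcases c with c | c <;>
      simp [S, Matrix.mul_apply, Fintype.sum_sum_type, Matrix.one_apply, Matrix.mulVec, dotProduct, M, mul_comm]
  clear_value G'
  let side : Fin 2 ⊕ Fin 2 → Fin 2 := Sum.elim (fun _ => 0) (fun _ => 1)
  have hside : ∀ d, col d ∈ D (side d) := fun d => by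
    rcases d with d | d
    · exact he d
    · exact (w d).2
  have hzero : ∀ c d, side c.swap = π (side d) → G' c d = 0 := fun c d h => by
    rw [hentry]
    refine hTI (π (side d)) _ ?_ _ (h ▸ hside _)
    rw [← hπ]
    exact ⟨_, hside d, Matrix.toLin'_apply _ _⟩
  have hS : G'ᵀ * S * G'.map σ = S := by
    have hu : (g : Matrix (Fin 4) (Fin 4) F)ᵀ * (g : Matrix (Fin 4) (Fin 4) F).map σ = 1 :=
      mem_isoGroup.1 (gu_eq_isoGroup hσ ▸ hgu : g ∈ isoGroup σ)
    calc G'ᵀ * S * G'.map σ = (M * G')ᵀ * (M * G').map σ := by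
          rw [← hMS, transpose_mul, Matrix.map_mul]; simp only [Matrix.mul_assoc]
      _ = Mᵀ * ((g : Matrix (Fin 4) (Fin 4) F)ᵀ * (g : Matrix (Fin 4) (Fin 4) F).map σ) * M.map σ := by
          rw [← hgM, transpose_mul, Matrix.map_mul]; simp only [Matrix.mul_assoc]
      _ = S := by rw [hu, Matrix.mul_one, hMS]
  have hdet : G'.det = 1 := by
    rw [hG', Matrix.det_conj_of_mul_eq_one hMiM hMMi]
    exact (CfsgLib.Transvec.mem_specialLinear_iff g).1 hgs
  obtain ⟨d, hd, hB'⟩ : ∃ d : F, d ≠ 0 ∧ G'ᵀ * B' * G' = d • B' := by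
    rcases (show π 0 = 0 ∧ π 1 = 1 ∨ π 0 = 1 ∧ π 1 = 0 by
      have := π.injective.ne (show (0 : Fin 2) ≠ 1 by decide)
      omega) with ⟨h0, h1⟩ | ⟨h0, h1⟩
    · have hG : G' = fromBlocks G'.toBlocks₁₁ 0 0 G'.toBlocks₂₂ := by
        conv_lhs => rw [← Matrix.fromBlocks_toBlocks G']
        congr 1 <;> ext i j <;> exact hzero _ _ (by simp [side, h0, h1])
      rw [hG] at hS hdet ⊢
      simp only [fromBlocks_transpose, fromBlocks_map, map_zero, transpose_zero, Matrix.map_zero, S, fromBlocks_multiply,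
        Matrix.mul_zero, Matrix.zero_mul, add_zero, zero_add, Matrix.mul_one, Matrix.fromBlocks_inj] at hS
      rw [det_fromBlocks_zero₂₁] at hdet
      obtain ⟨hac, ha⟩ := block_similitude hq hσ hS.2.1 hdet
      refine ⟨_, ha, ?_⟩
      simp only [B', fromBlocks_transpose, transpose_zero, fromBlocks_multiply, Matrix.mul_zero, Matrix.zero_mul,
        add_zero, zero_add, transpose_jTwo_mul, fromBlocks_smul, smul_zero, ← hac]
    · have hG : G' = fromBlocks 0 G'.toBlocks₁₂ G'.toBlocks₂₁ 0 := by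
        conv_lhs => rw [← Matrix.fromBlocks_toBlocks G']
        congr 1 <;> ext i j <;> exact hzero _ _ (by simp [side, h0, h1])
      rw [hG] at hS hdet ⊢
      simp only [fromBlocks_transpose, fromBlocks_map, map_zero, transpose_zero, Matrix.map_zero, S, fromBlocks_multiply,
        Matrix.mul_zero, Matrix.zero_mul, add_zero, zero_add, Matrix.mul_one, Matrix.fromBlocks_inj] at hS
      have hd' : (G'.toBlocks₁₂).det * (G'.toBlocks₂₁).det = 1 := by
        rw [show fromBlocks 0 G'.toBlocks₁₂ G'.toBlocks₂₁ 0 =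
          fromBlocks G'.toBlocks₁₂ 0 0 G'.toBlocks₂₁ * fromBlocks 0 1 1 0 by simp [fromBlocks_multiply], det_mul,
          det_swap_four, mul_one, det_fromBlocks_zero₂₁] at hdet
        exact hdet
      obtain ⟨hac, ha⟩ := block_similitude hq hσ hS.2.1 (by rw [mul_comm]; exact hd')
      refine ⟨_, ha, ?_⟩
      simp only [B', fromBlocks_transpose, transpose_zero, fromBlocks_multiply, Matrix.mul_zero, Matrix.zero_mul,
        add_zero, zero_add, transpose_jTwo_mul, fromBlocks_smul, smul_zero, ← hac]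
  refine mem_similarityGroup_gf.2 ⟨Units.mk0 d hd, ?_⟩
  have hMg : Mi * (g : Matrix (Fin 4) (Fin 4) F) = G' * Mi := by
    rw [hG', Matrix.mul_assoc (Mi * _), hMMi, Matrix.mul_one]
  calc (g : Matrix (Fin 4) (Fin 4) F)ᵀ * B * (g : Matrix (Fin 4) (Fin 4) F).map (RingHom.id F)
      = (Mi * (g : Matrix (Fin 4) (Fin 4) F))ᵀ * B' * (Mi * (g : Matrix (Fin 4) (Fin 4) F)) := by
        simp [B, transpose_mul, Matrix.mul_assoc]
    _ = Miᵀ * (G'ᵀ * B' * G') * Mi := by rw [hMg, transpose_mul]; simp only [Matrix.mul_assoc]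
    _ = d • B := by rw [hB', Matrix.mul_smul, Matrix.smul_mul]

/-- Maximal subgroups stabilising two totally isotropic planes are subfield groups. -/
theorem exists_subfield_of_ti {H : Subgroup (GL (Fin 4) F)} (hF : Fintype.card F = q ^ 2) (hq : q ≤ 3)
    (hH : Cfsg.Geo.IsMaximalIn (su 4 F q) H) {D : Fin 2 → Submodule F (Fin 4 → F)} (hD : Cfsg.Geo.IsMDecomposition 2 D)
    (hTI : ∀ i, Cfsg.Geo.IsTotallySingularFor (Cfsg.hermForm 4 F q) (D i))
    (hle : H ≤ Cfsg.Geo.decompositionStabilizer D) :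
    (∃ (K : Subfield F) (P : GL (Fin 4) F) (ζ : F), Fintype.card F = Nat.card K ^ 2 ∧ ζ ≠ 0 ∧ ζ + ζ ^ q = 0 ∧
      Cfsg.Geo.IsFormRationalStructure (Cfsg.hermForm 4 F q) K ζ P ∧
      (∀ u : Fin 4 → F, (∀ i, u i ∈ K) →
        Cfsg.hermForm 4 F q ((P : Matrix (Fin 4) (Fin 4) F) *ᵥ u) ((P : Matrix (Fin 4) (Fin 4) F) *ᵥ u) = 0) ∧
      H = Cfsg.Geo.subfieldSubgroup K P ⊓ su 4 F q) ∨
    (Odd q ∧ ∃ (K : Subfield F) (P : GL (Fin 4) F), Fintype.card F = Nat.card K ^ 2 ∧
      Cfsg.Geo.IsFormRationalStructure (Cfsg.hermForm 4 F q) K 1 P ∧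
      H = Cfsg.Geo.subfieldSubgroup K P ⊓ su 4 F q) := by
  obtain ⟨σ, hσ⟩ := exists_qAut hF
  obtain ⟨B, hB, hBt, hdiag, hBB, hsim⟩ := ti_refine hσ hq hD hTI
  rcases subfield_of_bilinear hσ (by norm_num) (hH.1.le.trans inf_le_left) hB hBt (Or.inr rfl) (fun _ => hdiag) hBB
      (fun h hh => hsim h (hH.1.le hh).1 (hH.1.le hh).2 (hle hh)) with
    ⟨K, P, ζ, -, h2, h3, h4, h5, h6, h⟩ | ⟨K, P, h1, h2, h3, h⟩
  · exact Or.inl ⟨K, P, ζ, h2, h3, h4, h5, h6, eq_subfield le_rfl hF hH le_rfl h2 h⟩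
  · exact Or.inr ⟨h1, K, P, h2, h3, eq_subfield le_rfl hF hH le_rfl h2 h⟩

end CfsgLib.AschUList
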