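import Cfsg.Agent.Lib.Techniques.AschPrimeU.Iso
import Cfsg.Agent.Lib.Classical22.Asch.Gram
import Cfsg.Agent.Lib.Classical22.Asch.Members

/-!
# The field with four elements: planes and tensor factors of dimension two split into lines
-/

set_option autoImplicit false

namespace CfsgLib.AschUList

open Matrix CfsgLib.Transvec CfsgLib.Transvec.Unitary CfsgLib.Techniques.AschPrimeU
open scoped MatrixGroups Kronecker

variable {ι : Type} [Fintype ι] [DecidableEq ι] {F : Type*} [Field F] [Fintype F] {σ : F ≃+* F}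

omit [Fintype F] in
/-- An element mapping the members of a decomposition into members lies in the stabiliser. -/
theorem mem_stabilizer_of_maps {m t : ℕ} {E : Fin t → Submodule F (ι → F)} (hE : Cfsg.Geo.IsMDecomposition m E)
    {g : GL ι F} (h : ∀ a, ∃ b, ∀ x ∈ E a, (g : Matrix ι ι F) *ᵥ x ∈ E b) :
    g ∈ Cfsg.Geo.decompositionStabilizer E := by
  choose π hπ using h
  have heq : ∀ a, (E a).map (Matrix.toLin' (g : Matrix ι ι F)) = E (π a) := fun a => by
    refine Submodule.eq_of_le_of_finrank_eq ?_ ?_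
    · rintro _ ⟨x, hx, rfl⟩
      rw [Matrix.toLin'_apply]
      exact hπ a x hx
    · rw [CfsgLib.Transvec.finrank_map_gl, hE.finrank_eq, hE.finrank_eq]
  have hinj : Function.Injective π := fun a b hab => by
    by_contra hne
    have h1 : E a = E b := Submodule.map_injective_of_injective (f := Matrix.toLin' (g : Matrix ι ι F))
      (fun x y hxy => by
        rw [Matrix.toLin'_apply, Matrix.toLin'_apply] at hxy
        exact Matrix.mulVec_injective_iff_isUnit.2 g.isUnit hxy) ((heq a).trans (hab ▸ (heq b).symm))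
    have h2 := hE.indep.pairwiseDisjoint hne
    rw [Function.onFun, h1, disjoint_self] at h2
    have h3 := hE.finrank_eq b
    rw [h2, finrank_bot] at h3
    exact hE.pos.ne h3
  exact ⟨Equiv.ofBijective π (Finite.injective_iff_bijective.1 hinj), heq⟩

section four

variable (h4 : Fintype.card F = 4) {f : (ι → F) → (ι → F) → F} (hf : Cfsg.Geo.IsUnitaryForm σ f)

include h4 hf

omit [DecidableEq ι] in
theorem four_sigma (a : F) : σ a = a ^ 2 := by
  have hcube : ∀ b : F, b ≠ 0 → b ^ 3 = 1 := fun b hb => by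
    simpa [h4] using FiniteField.pow_card_sub_one_eq_one b hb
  have hfix : ∀ b : F, σ b = b → b = 0 ∨ b = 1 := by
    intro b hb
    by_contra hcon
    push Not at hcon
    refine hf.ne_refl (RingEquiv.ext fun c => ?_)
    -- the elements are 0, 1, b, b²
    have hb2 : b ^ 2 ≠ b := fun h => hcon.2 (mul_left_cancel₀ hcon.1 (by rw [mul_one, ← sq, h]))
    have hb21 : b ^ 2 ≠ 1 := fun h => hcon.2 (by
      have := hcube b hcon.1
      rw [pow_succ, h, one_mul] at this
      exact this)
    classical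
    have hall : ({0, 1, b, b ^ 2} : Finset F) = Finset.univ := by
      refine Finset.eq_univ_of_card _ ?_
      rw [h4, Finset.card_insert_of_notMem, Finset.card_insert_of_notMem, Finset.card_pair hb2.symm]
      · simp [Ne.symm hcon.2, Ne.symm hb21]
      · simp [zero_ne_one, Ne.symm hcon.1, Ne.symm (pow_ne_zero 2 hcon.1)]
    have hc : c ∈ ({0, 1, b, b ^ 2} : Finset F) := hall ▸ Finset.mem_univ c
    simp only [Finset.mem_insert, Finset.mem_singleton] at hc
    rcases hc with rfl | rfl | rfl | rfl <;> simp [hb]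
  by_cases ha : a = 0
  · rw [ha, map_zero, zero_pow two_ne_zero]
  rcases hfix (a * σ a) (by rw [map_mul, hf.involutive, mul_comm]) with h | h
  · exact absurd ((mul_eq_zero.1 h).resolve_left ha) fun h' => ha (σ.injective (by rw [h', map_zero]))
  · refine mul_left_cancel₀ ha ?_
    rw [h, ← pow_succ', hcube a ha]

omit [DecidableEq ι] in
theorem self_eq_one {x : ι → F} (hx : f x x ≠ 0) : f x x = 1 := by
  have h := four_sigma h4 hf (f x x)
  rw [← hf.herm, sq] at h
  exact mul_left_cancel₀ hx (h.symm.trans (mul_one _).symm)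

/-- An anisotropic combination of two orthogonal anisotropic vectors is a multiple of one of them. -/
theorem two_lines {u v : ι → F} (huv : f u v = 0) (hu : f u u ≠ 0) (hv : f v v ≠ 0) {a b : F}
    (hx : f (a • u + b • v) (a • u + b • v) ≠ 0) : a = 0 ∨ b = 0 := by
  by_contra hcon
  push Not at hcon
  refine hx ?_
  have hn : ∀ c : F, c ≠ 0 → c * σ c = 1 := fun c hc => by
    rw [four_sigma h4 hf, ← pow_succ']
    simpa [h4] using FiniteField.pow_card_sub_one_eq_one c hc
  have h2 : (2 : F) = 0 := by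
    have h := FiniteField.cast_card_eq_zero F
    rw [h4] at h
    push_cast at h
    exact mul_self_eq_zero.1 (by linear_combination h)
  rw [hf.add_left, add_right' hf, add_right' hf, hf.smul_left, hf.smul_left, hf.smul_left, hf.smul_left,
    smul_right' hf, smul_right' hf, smul_right' hf, smul_right' hf, self_eq_one h4 hf hu, self_eq_one h4 hf hv,
    hf.herm v u, huv, map_zero]
  linear_combination hn a hcon.1 + hn b hcon.2 + h2

omit h4 in
/-- An orthogonal pair spanning a non-degenerate plane. -/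
theorem exists_orth_pair {W : Submodule F (ι → F)} (hW : Module.finrank F W = 2)
    (hnd : Cfsg.Geo.IsNondegenerateOn f W) :
    ∃ u v, f u u ≠ 0 ∧ f v v ≠ 0 ∧ f u v = 0 ∧ u ∈ W ∧ v ∈ W ∧ Submodule.span F {u, v} = W := by
  obtain ⟨u, huW, hu⟩ := exists_aniso hf (fun h => by rw [h, finrank_bot] at hW; omega) fun w hw hw0 => (hnd w hw hw0).1
  let L : W →ₗ[F] F :=
    { toFun := fun x => f (x : ι → F) u
      map_add' := fun a b => hf.add_left _ _ _
      map_smul' := fun a b => hf.smul_left _ _ _ }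
  obtain ⟨⟨v, hvW⟩, hv, hv0⟩ := Submodule.exists_mem_ne_zero_of_ne_bot
    (LinearMap.ker_ne_bot_of_finrank_lt (f := L) (by rw [Module.finrank_self, hW]; omega))
  have hvu : f v u = 0 := hv
  have huv : f u v = 0 := by rw [hf.herm, hvu, map_zero]
  have hv0' : v ≠ 0 := fun h => hv0 (Subtype.ext h)
  have hli : LinearIndependent F ![u, v] := by
    refine LinearIndependent.pair_iff.2 fun a b hab => ?_
    have h1 := congrArg (fun x => f x u) hab
    rw [hf.add_left, hf.smul_left, hf.smul_left, hvu, mul_zero, add_zero] at h1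
    have h0 : f 0 u = 0 := by simpa using hf.smul_left 0 0 u
    rw [h0] at h1
    obtain rfl := (mul_eq_zero.1 h1).resolve_right hu
    rw [zero_smul, zero_add] at hab
    exact ⟨rfl, (smul_eq_zero.1 hab).resolve_right hv0'⟩
  have hspan : Submodule.span F {u, v} = W := by
    refine Submodule.eq_of_le_of_finrank_eq (Submodule.span_le.2 (by
      rintro x (rfl | rfl) <;> assumption)) ?_
    rw [hW, ← Matrix.range_cons_cons_empty u v ![], finrank_span_eq_card hli, Fintype.card_fin]
  refine ⟨u, v, hu, fun hvv => ?_, huv, huW, hvW, hspan⟩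
  obtain ⟨x, hx, hxv⟩ := (hnd v hvW hv0').1
  rw [← hspan] at hx
  obtain ⟨a, b, rfl⟩ := Submodule.mem_span_pair.1 hx
  exact hxv (by rw [hf.add_left, hf.smul_left, hf.smul_left, huv, hvv, mul_zero, mul_zero, add_zero])

omit [Fintype F] h4 in
theorem finrank_line {x : ι → F} (hx : f x x ≠ 0) : Module.finrank F (F ∙ x) = 1 :=
  finrank_span_singleton fun h => hx (by rw [h]; simpa using hf.smul_left 0 0 (0 : ι → F))

/-- A decomposition into planes is refined by one into lines. -/
theorem planes_refine {t : ℕ} {D : Fin t → Submodule F (ι → F)}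
    (hD : Cfsg.Geo.IsNondegenerateMDecomposition f 2 D) :
    ∃ E : Fin (t * 2) → Submodule F (ι → F), Cfsg.Geo.IsNondegenerateMDecomposition f 1 E ∧
      ∀ g : GL ι F, g ∈ Cfsg.Geo.decompositionStabilizer D → Iso f g → g ∈ Cfsg.Geo.decompositionStabilizer E := by
  classical
  choose u v hu hv huv huD hvD hspan using fun i => exists_orth_pair hf (hD.decomp.finrank_eq i) (hD.nondegenerate i)
  let w : Fin t × Fin 2 → ι → F := fun p => ![u p.1, v p.1] p.2
  have hwD : ∀ p, w p ∈ D p.1 := by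
    rintro ⟨i, j⟩; fin_cases j
    · exact huD i
    · exact hvD i
  have hww : ∀ p, f (w p) (w p) ≠ 0 := by
    rintro ⟨i, j⟩; fin_cases j
    · exact hu i
    · exact hv i
  have horth : ∀ p p', p ≠ p' → f (w p) (w p') = 0 := by
    rintro ⟨i, j⟩ ⟨i', j'⟩ hne
    by_cases hi : i = i'
    · subst hi
      fin_cases j <;> fin_cases j'
      · exact absurd rfl hne
      · exact huv i
      · show f (v i) (u i) = 0
        rw [hf.herm, huv, map_zero]
      · exact absurd rfl hne
    · exact hD.orthogonal i i' hi _ (hwD (i, j)) _ (hwD (i', j'))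
  let e := (finProdFinEquiv (m := t) (n := 2)).symm
  let E : Fin (t * 2) → Submodule F (ι → F) := fun a => F ∙ w (e a)
  have hE : Cfsg.Geo.IsNondegenerateMDecomposition f 1 E := by
    refine ⟨⟨by have := hD.decomp.two_le; omega, one_pos, fun a => finrank_line hf (hww _), ?_, ?_⟩, fun a x hx hx0 => ?_,
      fun a b hab x hx y hy => ?_⟩
    · -- independence from orthogonality
      refine iSupIndep_def.2 fun a => ?_
      rw [Submodule.disjoint_def]
      intro x hxa hxb
      obtain ⟨c, rfl⟩ := Submodule.mem_span_singleton.1 hxa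
      have h0 : f (c • w (e a)) (w (e a)) = 0 := by
        have hle : (⨆ b ≠ a, E b) ≤ LinearMap.ker
            ({ toFun := fun z => f z (w (e a))
               map_add' := fun _ _ => hf.add_left _ _ _
               map_smul' := fun _ _ => hf.smul_left _ _ _ } : (ι → F) →ₗ[F] F) := by
          refine iSup₂_le fun b hb => (Submodule.span_singleton_le_iff_mem _ _).2 ?_
          exact horth _ _ (e.injective.ne hb)
        exact hle hxb
      rw [hf.smul_left] at h0
      rw [(mul_eq_zero.1 h0).resolve_right (hww _), zero_smul]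
    · refine eq_top_iff.2 (hD.decomp.iSup_eq_top ▸ iSup_le fun i => ?_)
      rw [← hspan i, Submodule.span_le]
      rintro x (rfl | rfl)
      · exact le_iSup E (e.symm (i, 0)) (by simp [E, w])
      · exact le_iSup E (e.symm (i, 1)) (by simp [E, w])
    · obtain ⟨c, rfl⟩ := Submodule.mem_span_singleton.1 hx
      have hc : c ≠ 0 := fun h => hx0 (by rw [h, zero_smul])
      refine ⟨⟨_, Submodule.mem_span_singleton_self _, ?_⟩, ⟨_, Submodule.mem_span_singleton_self _, ?_⟩⟩
      · rw [smul_right' hf]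
        exact mul_ne_zero ((map_ne_zero_iff _ σ.injective).2 hc) (hww _)
      · rw [hf.smul_left]
        exact mul_ne_zero hc (hww _)
    · obtain ⟨c, rfl⟩ := Submodule.mem_span_singleton.1 hx
      obtain ⟨d, rfl⟩ := Submodule.mem_span_singleton.1 hy
      rw [hf.smul_left, smul_right' hf, horth _ _ (e.injective.ne hab), mul_zero, mul_zero]
  refine ⟨E, hE, fun g ⟨π, hπ⟩ hg => mem_stabilizer_of_maps hE.decomp fun a => ?_⟩
  have hgw : (g : Matrix ι ι F) *ᵥ w (e a) ∈ D (π (e a).1) := by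
    rw [← hπ]
    exact ⟨_, hwD _, Matrix.toLin'_apply _ _⟩
  have hne : f ((g : Matrix ι ι F) *ᵥ w (e a)) ((g : Matrix ι ι F) *ᵥ w (e a)) ≠ 0 := by rw [hg]; exact hww _
  rw [← hspan] at hgw
  obtain ⟨c, d, hcd⟩ := Submodule.mem_span_pair.1 hgw
  rw [← hcd] at hne
  obtain ⟨j, l, hj⟩ : ∃ j l, (g : Matrix ι ι F) *ᵥ w (e a) = l • w (π (e a).1, j) := by
    rcases two_lines h4 hf (huv _) (hu _) (hv _) hne with rfl | rfl
    · exact ⟨1, d, by rw [← hcd, zero_smul, zero_add]; rfl⟩
    · exact ⟨0, c, by rw [← hcd, zero_smul, add_zero]; rfl⟩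
  refine ⟨e.symm (π (e a).1, j), fun x hx => ?_⟩
  obtain ⟨k, rfl⟩ := Submodule.mem_span_singleton.1 hx
  rw [mulVec_smul, hj]
  refine Submodule.smul_mem _ _ (Submodule.smul_mem _ _ ?_)
  simp only [E, Equiv.apply_symm_apply]
  exact Submodule.mem_span_singleton_self _

/-- A tensor decomposition with a factor of dimension two is refined by two blocks. -/
theorem tensor_two_refine {b : ℕ} (hb : 0 < b) {e : ι ≃ Fin 2 × Fin b} {P : GL ι F}
    {f₁ : (Fin 2 → F) → (Fin 2 → F) → F} {f₂ : (Fin b → F) → (Fin b → F) → F}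
    (hf₁ : Cfsg.Geo.IsUnitaryForm σ f₁) (hf₂ : Cfsg.Geo.IsUnitaryForm σ f₂)
    (hP : Cfsg.Geo.IsTensorFormStructure σ f f₁ f₂ e P) :
    ∃ E : Fin 2 → Submodule F (ι → F), Cfsg.Geo.IsNondegenerateMDecomposition f b E ∧
      ∀ g : GL ι F, g ∈ Cfsg.Geo.tensorProductSubgroup 2 b e P → Iso f g →
        g ∈ Cfsg.Geo.decompositionStabilizer E := by
  classical
  obtain ⟨c, hc, hP⟩ := hP
  let φ : (Fin 2 → F) → (Fin b → F) → ι → F := fun x y => (P : Matrix ι ι F) *ᵥ ((fun p => x p.1 * y p.2) ∘ e)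
  have hs1 := CfsgLib.Techniques.AschPrime.IsSesq.of_unitary hf₁
  have hs2 := CfsgLib.Techniques.AschPrime.IsSesq.of_unitary hf₂
  have hform : ∀ x y x' y', f (φ x y) (φ x' y') = c * (f₁ x x' * f₂ y y') := by
    intro x y x' y'
    rw [hP, hs1.eq_gram, hs2.eq_gram, ← CfsgLib.Classical22.Asch.formOfGram_apply,
      ← CfsgLib.Classical22.Asch.formOfGram_apply]
    congr 1
    simp only [Cfsg.Geo.formOfGram, Fintype.sum_prod_type, Matrix.kronecker_apply, map_mul]
    rw [Finset.sum_mul_sum]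
    refine Finset.sum_congr rfl fun i _ => Finset.sum_congr rfl fun k _ => ?_
    rw [Finset.sum_mul_sum]
    exact Finset.sum_congr rfl fun j _ => Finset.sum_congr rfl fun l _ => by ring
  have htop : Module.finrank F (⊤ : Submodule F (Fin 2 → F)) = 2 := by simp
  obtain ⟨u, v, hu, hv, huv, -, -, hspan⟩ := exists_orth_pair hf₁ htop fun w _ hw0 => by
    obtain ⟨⟨x, hx⟩, ⟨y, hy⟩⟩ := hf₁.nondegenerate w hw0
    exact ⟨⟨x, Submodule.mem_top, hx⟩, ⟨y, Submodule.mem_top, hy⟩⟩
  let w : Fin 2 → Fin 2 → F := ![u, v]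
  have hww : ∀ j, f₁ (w j) (w j) ≠ 0 := fun j => by fin_cases j <;> assumption
  have horth : ∀ j j', j ≠ j' → f₁ (w j) (w j') = 0 := fun j j' hne => by
    fin_cases j <;> fin_cases j'
    · exact absurd rfl hne
    · exact huv
    · show f₁ v u = 0
      rw [hf₁.herm, huv, map_zero]
    · exact absurd rfl hne
  let Φ : Fin 2 → (Fin b → F) →ₗ[F] (ι → F) := fun j =>
    { toFun := fun y => φ (w j) y
      map_add' := fun y y' => by
        simp only [φ, ← mulVec_add]; congr 1; funext i; simp [mul_add]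
      map_smul' := fun k y => by
        simp only [φ, RingHom.id_apply, ← mulVec_smul]; congr 1; funext i; simp [mul_left_comm] }
  have hinj : ∀ j, Function.Injective (Φ j) := fun j => (injective_iff_map_eq_zero (Φ j)).2 fun y hy => by
    by_contra hy0
    obtain ⟨y', hy'⟩ := (hf₂.nondegenerate y hy0).2
    have h := hform (w j) y (w j) y'
    rw [show φ (w j) y = 0 from hy, show f 0 _ = 0 by simpa using hf.smul_left 0 0 (φ (w j) y')] at h
    exact mul_ne_zero hc (mul_ne_zero (hww j) hy') h.symm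
  let E : Fin 2 → Submodule F (ι → F) := fun j => LinearMap.range (Φ j)
  have hrank : ∀ j, Module.finrank F (E j) = b := fun j => by
    simp [E, LinearMap.finrank_range_of_inj (hinj j)]
  have hEorth : ∀ j j', j ≠ j' → Cfsg.Geo.AreOrthogonalFor f (E j) (E j') := by
    rintro j j' hne _ ⟨y, rfl⟩ _ ⟨y', rfl⟩
    show f (φ _ _) (φ _ _) = 0
    rw [hform, horth j j' hne, zero_mul, mul_zero]
  have hEnd : ∀ j, Cfsg.Geo.IsNondegenerateOn f (E j) := by
    rintro j _ ⟨y, rfl⟩ hne
    have hy : y ≠ 0 := fun h => hne (by rw [h, map_zero])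
    obtain ⟨⟨y₁, h1⟩, ⟨y₂, h2⟩⟩ := hf₂.nondegenerate y hy
    exact ⟨⟨Φ j y₁, ⟨_, rfl⟩, by show f (φ _ _) (φ _ _) ≠ 0; rw [hform]; exact mul_ne_zero hc (mul_ne_zero (hww j) h1)⟩,
      ⟨Φ j y₂, ⟨_, rfl⟩, by show f (φ _ _) (φ _ _) ≠ 0; rw [hform]; exact mul_ne_zero hc (mul_ne_zero (hww j) h2)⟩⟩
  have hdis : Disjoint (E 0) (E 1) := by
    rw [Submodule.disjoint_def]
    intro x h0 h1
    by_contra hx
    obtain ⟨y, hy, hyx⟩ := (hEnd 0 x h0 hx).1
    exact hyx (hEorth 0 1 (by decide) y hy x h1)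
  have hsup : E 0 ⊔ E 1 = ⊤ := by
    apply Submodule.eq_top_of_finrank_eq
    have h := Submodule.finrank_sup_add_finrank_inf_eq (E 0) (E 1)
    rw [hdis.eq_bot, finrank_bot, hrank, hrank] at h
    rw [Module.finrank_fintype_fun_eq_card, Fintype.card_congr e]
    simp
    omega
  have hE : Cfsg.Geo.IsNondegenerateMDecomposition f b E := by
    refine ⟨⟨le_rfl, hb, hrank, ?_, ?_⟩, hEnd, hEorth⟩
    · exact (iSupIndep_pair (i := (0 : Fin 2)) (j := 1) (by decide) (fun k => by omega)).2 hdis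
    · rw [eq_top_iff, ← hsup]; exact sup_le (le_iSup E 0) (le_iSup E 1)
  refine ⟨E, hE, fun g hgT hg => mem_stabilizer_of_maps hE.decomp fun j => ?_⟩
  obtain ⟨z, ⟨A, B, hz⟩, hgz⟩ := CfsgLib.Classical22.Asch.exists_toCoord_of_mem hgT
  rw [hz, CfsgLib.Classical22.Asch.toCoord_eq_iff] at hgz
  have hact : ∀ x y, (g : Matrix ι ι F) *ᵥ φ x y =
      φ ((A : Matrix (Fin 2) (Fin 2) F) *ᵥ x) ((B : Matrix (Fin b) (Fin b) F) *ᵥ y) := by
    intro x y
    simp only [φ]
    rw [mulVec_mulVec, hgz, ← mulVec_mulVec, Matrix.submatrix_mulVec_equiv]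
    congr 1
    funext i
    simp only [Function.comp_apply, Equiv.self_comp_symm, Function.comp_assoc, Function.comp_id]
    simp only [Matrix.mulVec, dotProduct, Fintype.sum_prod_type, Matrix.kroneckerMap_apply, Function.comp_apply,
      Equiv.apply_symm_apply]
    rw [Finset.sum_mul_sum]
    exact Finset.sum_congr rfl fun _ _ => Finset.sum_congr rfl fun _ _ => by ring
  haveI : Nonempty (Fin b) := ⟨⟨0, hb⟩⟩
  obtain ⟨y₀, y₁, hy⟩ : ∃ y y', f₂ y y' ≠ 0 := by
    obtain ⟨y, hy⟩ := exists_ne (0 : Fin b → F)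
    obtain ⟨y', hy'⟩ := (hf₂.nondegenerate y hy).2
    exact ⟨y, y', hy'⟩
  have hne : f₁ ((A : Matrix (Fin 2) (Fin 2) F) *ᵥ w j) ((A : Matrix (Fin 2) (Fin 2) F) *ᵥ w j) ≠ 0 := by
    intro h0
    have h := hform (w j) y₀ (w j) y₁
    rw [← hg, hact, hact, hform, h0, zero_mul, mul_zero] at h
    exact mul_ne_zero hc (mul_ne_zero (hww j) hy) h.symm
  obtain ⟨k, d, hkd⟩ : ∃ k d, (A : Matrix (Fin 2) (Fin 2) F) *ᵥ w j = d • w k := by
    obtain ⟨a, a', haa⟩ := Submodule.mem_span_pair.1 (hspan ▸ Submodule.mem_top :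
      (A : Matrix (Fin 2) (Fin 2) F) *ᵥ w j ∈ Submodule.span F {u, v})
    rw [← haa] at hne
    rcases two_lines h4 hf₁ huv hu hv hne with rfl | rfl
    · exact ⟨1, a', by rw [← haa, zero_smul, zero_add]; rfl⟩
    · exact ⟨0, a, by rw [← haa, zero_smul, add_zero]; rfl⟩
  refine ⟨k, ?_⟩
  rintro _ ⟨y, rfl⟩
  refine ⟨d • ((B : Matrix (Fin b) (Fin b) F) *ᵥ y), ?_⟩
  show φ _ _ = (g : Matrix ι ι F) *ᵥ φ _ _
  rw [hact, hkd]
  simp only [φ]
  congr 1
  funext i
  simp [mul_left_comm, mul_assoc]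

end four

end CfsgLib.AschUList
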