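import Mathlib.FieldTheory.Galois.NormalBasis
import Mathlib.RingTheory.Norm.Transitivity
import Cfsg.Agent.Lib.Aschbacher.UnitarySubfield
import Cfsg.Agent.Lib.AschUList.Main
import Cfsg.Agent.Lib.AschUList.Two

/-!
# Cubic fields in the six-dimensional unitary space over four elements
-/

set_option autoImplicit false
set_option maxHeartbeats 1000000

namespace CfsgLib.AschUList

open Matrix CfsgLib.Aschbacher
open scoped MatrixGroups

variable {F : Type*} [Field F] [Fintype F] {σ : F ≃+* F}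

omit [Fintype F] in
theorem det_basis_perm {V : Type*} [AddCommGroup V] [Module F V] {κ : Type*} [Fintype κ] [DecidableEq κ]
    (b : Module.Basis κ F V) (π : Equiv.Perm κ) :
    LinearMap.det (b.equiv b π).toLinearMap = ((Equiv.Perm.sign π : ℤ) : F) := by
  rw [← LinearMap.det_toMatrix b, show LinearMap.toMatrix b b (b.equiv b π).toLinearMap =
    (1 : Matrix κ κ F).submatrix π.symm id by
      ext i j
      rw [LinearMap.toMatrix_apply, LinearEquiv.coe_coe, Module.Basis.equiv_apply, Module.Basis.repr_self,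
        Matrix.submatrix_apply, Matrix.one_apply, Finsupp.single_apply]
      by_cases h : π j = i
      · subst h; simp
      · rw [if_neg h, if_neg fun h' : π.symm i = id j => h (by rw [id_eq] at h'; rw [← h', Equiv.apply_symm_apply])],
    det_permute, det_one, mul_one, Equiv.Perm.sign_symm]

/-- The stabiliser of a cubic field preserves an alternating form up to scalars. -/
theorem field_alternating (hσ : QAut 2 σ) {L : Type*} [Field L] [Fintype L] [Algebra F L] [Module L (Fin 6 → F)]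
    [IsScalarTower F L (Fin 6 → F)] (h3 : Module.finrank F L = 3) (τ : L ≃+* L)
    (hτ : ∀ (k : L) (u v : Fin 6 → F), Cfsg.hermForm 6 F 2 (k • u) v = Cfsg.hermForm 6 F 2 u (τ k • v)) :
    ∃ B : Matrix (Fin 6) (Fin 6) F, IsUnit B ∧ Bᵀ = (-1 : F) • B ∧ (∀ i, B i i = 0) ∧
      B * B.map σ = (1 : F) • (1 : Matrix (Fin 6) (Fin 6) F) ∧
      ∀ g : GL (Fin 6) F, g ∈ Cfsg.GU 6 F 2 → (g : Matrix (Fin 6) (Fin 6) F).det = 1 → ∀ ψ : L ≃ₐ[F] L,
        (∀ (k : L) (v : Fin 6 → F), (g : Matrix (Fin 6) (Fin 6) F) *ᵥ (k • v) =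
          ψ k • ((g : Matrix (Fin 6) (Fin 6) F) *ᵥ v)) →
        g ∈ Cfsg.Geo.similarityGroup (gf (RingHom.id F) B) := by
  classical
  set f := Cfsg.hermForm 6 F 2 with hfdef
  have hf : Cfsg.Geo.IsUnitaryForm σ f :=
    CfsgLib.Transvec.Unitary.isUnitaryForm_hermForm hσ.apply hσ.invol hσ.ne
  have hF4 : Fintype.card F = 4 := hσ.card
  have h2 : (2 : F) = 0 := by
    have h := FiniteField.cast_card_eq_zero F
    rw [hF4] at h
    push_cast at h
    exact mul_self_eq_zero.1 (by linear_combination h)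
  have hneg : (-1 : F) = 1 := by linear_combination -h2
  have hsr : ∀ (c : F) (u v : Fin 6 → F), f u (c • v) = σ c * f u v := fun c u v =>
    CfsgLib.Transvec.Unitary.smul_right' hf c u v
  have hadd : ∀ (u v w : Fin 6 → F), f u (v + w) = f u v + f u w := fun u v w =>
    CfsgLib.Transvec.Unitary.add_right' hf u v w
  -- properties of the adjoint
  have huniq : ∀ x y : L, (∀ u v, f u (x • v) = f u (y • v)) → x = y := by
    intro x y h
    obtain ⟨v, hv⟩ := exists_ne (0 : Fin 6 → F)
    by_contra hne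
    refine hv ((smul_eq_zero.1 (?_ : (x - y) • v = 0)).resolve_left (sub_ne_zero.2 hne))
    by_contra h0
    obtain ⟨u, hu⟩ := (hf.nondegenerate _ h0).1
    refine hu ?_
    have h1 := hadd u ((x - y) • v) (y • v)
    rw [← add_smul, sub_add_cancel, h u v] at h1
    linear_combination -h1
  have hττ : ∀ k, τ (τ k) = k := fun k => huniq _ _ fun u v => by
    rw [← hτ, hf.herm, ← hτ, ← hf.herm]
  have hτ' : ∀ (k : L) u v, f u (k • v) = f (τ k • u) v := fun k u v => by rw [hτ, hττ]
  have hτσ : ∀ a : F, τ (algebraMap F L a) = algebraMap F L (σ a) := fun a => huniq _ _ fun u v => by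
    rw [← hτ, algebraMap_smul, algebraMap_smul, hf.smul_left, hsr, hσ.invol]
  have hτne : τ ≠ RingEquiv.refl L := fun h => hσ.ne (RingEquiv.ext fun a => by
    have h1 := hτσ a
    rw [h, RingEquiv.refl_apply] at h1
    exact ((algebraMap F L).injective h1).symm)
  have hτsmul : ∀ (a : F) (k : L), τ (a • k) = σ a • τ k := fun a k => by
    rw [Algebra.smul_def, map_mul, hτσ, ← Algebra.smul_def]
  -- pairings attached to vectors
  let P : (Fin 6 → F) → L →ₗ[F] Module.Dual F L := fun e => LinearMap.mk₂ F (fun c k => f ((k * c) • e) e)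
    (fun c c' k => by rw [mul_add, add_smul, hf.add_left])
    (fun a c k => by rw [mul_smul_comm, smul_assoc, hf.smul_left]; rfl)
    (fun c k k' => by rw [add_mul, add_smul, hf.add_left])
    (fun a c k => by rw [smul_mul_assoc, smul_assoc, hf.smul_left]; rfl)
  have hP : ∀ e c k, P e c k = f ((k * c) • e) e := fun e c k => rfl
  have hPinj : ∀ e, f e e ≠ 0 → Function.Injective (P e) := fun e he => (injective_iff_map_eq_zero (P e)).2 fun c hc => by
    by_contra h0
    have h1 := LinearMap.congr_fun hc c⁻¹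
    rw [hP, inv_mul_cancel₀ h0, one_smul] at h1
    exact he h1
  have hPsur : ∀ e, f e e ≠ 0 → Function.Surjective (P e) := fun e he =>
    (LinearMap.injective_iff_surjective_of_finrank_eq_finrank (by rw [Subspace.dual_finrank_eq])).1 (hPinj e he)
  let e₁ : Fin 6 → F := Pi.single 0 1
  have he₁ : f e₁ e₁ ≠ 0 := by
    simp [hfdef, e₁, Cfsg.hermForm, Pi.single_apply]
  let W : Submodule F (Fin 6 → F) :=
    { carrier := {v | ∀ k : L, f (k • v) e₁ = 0}
      add_mem' := fun {a b} ha hb k => by rw [smul_add, hf.add_left, ha k, hb k, add_zero]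
      zero_mem' := fun k => by rw [smul_zero]; simpa using hf.smul_left 0 0 e₁
      smul_mem' := fun c v hv k => by rw [smul_comm, hf.smul_left, hv k, mul_zero] }
  have hproj : ∀ v, ∃ c : L, v - c • e₁ ∈ W := fun v => by
    obtain ⟨c, hc⟩ := hPsur e₁ he₁
      { toFun := fun k => f (k • v) e₁
        map_add' := fun a b => by rw [add_smul, hf.add_left]
        map_smul' := fun a b => by rw [smul_assoc, hf.smul_left]; rfl }
    refine ⟨c, fun k => ?_⟩
    have h1 : f ((k * c) • e₁) e₁ = f (k • v) e₁ := LinearMap.congr_fun hc k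
    have h2' := hf.add_left (k • (v - c • e₁)) ((k * c) • e₁) e₁
    rw [mul_smul, ← smul_add, sub_add_cancel, ← mul_smul, h1] at h2'
    linear_combination -h2'
  have hWperp : ∀ v ∈ W, ∀ k : L, f (k • e₁) v = 0 := fun v hv k => by
    rw [hτ, hf.herm, hv, map_zero]
  have hWne : W ≠ ⊥ := by
    intro hbot
    have hsur : Function.Surjective ((LinearMap.toSpanSingleton L (Fin 6 → F) e₁).restrictScalars F) := fun v => by
      obtain ⟨c, hc⟩ := hproj v
      rw [hbot, Submodule.mem_bot, sub_eq_zero] at hc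
      exact ⟨c, hc.symm⟩
    have := LinearMap.finrank_le_finrank_of_injective (R := F) (f := ((LinearMap.toSpanSingleton L (Fin 6 → F) e₁).restrictScalars F).dualMap)
      (LinearMap.dualMap_injective_of_surjective hsur)
    rw [Subspace.dual_finrank_eq, Subspace.dual_finrank_eq, h3, Module.finrank_fintype_fun_eq_card, Fintype.card_fin] at this
    omega
  obtain ⟨y, hy, hyy⟩ := CfsgLib.Techniques.AschPrimeU.exists_aniso hf hWne fun w hw hw0 => by
    obtain ⟨x, hx⟩ := (hf.nondegenerate w hw0).1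
    obtain ⟨c, hc⟩ := hproj x
    refine ⟨_, hc, fun h0 => hx ?_⟩
    have h1 := hf.add_left (x - c • e₁) (c • e₁) w
    rwa [sub_add_cancel, h0, hWperp w hw, add_zero] at h1
  obtain ⟨c, hc⟩ := hPsur y hyy (P e₁ 1)
  have hPτ : ∀ e d k, P e (τ d) (τ k) = σ (P e d k) := fun e d k => by
    rw [hP, hP, ← map_mul, ← hτ', hf.herm]
  have hτc : τ c = c := hPinj y hyy (LinearMap.ext fun k => by
    have h := hPτ y c (τ k)
    rw [hττ] at h
    rw [h, hc, ← hPτ, hττ, map_one])
  obtain ⟨l, hl⟩ := CfsgLib.Transvec.Unitary.exists_norm_eq hτne hττ hτc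
  let e₂ : Fin 6 → F := l • y
  have hself : ∀ k : L, f (k • e₂) e₂ = f (k • e₁) e₁ := fun k => by
    show f (k • (l • y)) (l • y) = _
    rw [hτ', smul_smul, smul_smul]
    have h := LinearMap.congr_fun hc k
    rw [hP, hP, mul_one] at h
    rw [← h, ← hl]
    congr 2
    ring
  have h21 : ∀ k : L, f (k • e₂) e₁ = 0 := fun k => by
    show f (k • (l • y)) e₁ = 0
    rw [smul_smul]; exact hy _
  have h12 : ∀ k : L, f (k • e₁) e₂ = 0 := fun k => by
    show f (k • e₁) (l • y) = 0
    rw [hτ', smul_smul]; exact hWperp y hy _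
  have he₂ : f e₂ e₂ ≠ 0 := by
    have := hself 1
    rw [one_smul, one_smul] at this
    rwa [this]
  have hli : LinearIndependent L ![e₁, e₂] := LinearIndependent.pair_iff.2 fun a b hab => by
    have h0 : ∀ w, f 0 w = 0 := fun w => by simpa using hf.smul_left 0 0 w
    have ha : a = 0 := hPinj e₁ he₁ (LinearMap.ext fun k => by
      rw [map_zero, LinearMap.zero_apply, hP]
      have := congrArg (fun v => f (k • v) e₁) hab
      simp only [smul_add, smul_smul, hf.add_left, h21, add_zero, smul_zero, h0] at this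
      exact this)
    refine ⟨ha, ?_⟩
    rw [ha, zero_smul, zero_add] at hab
    exact (smul_eq_zero.1 hab).resolve_right fun h => he₂ (by rw [h, h0])
  have hrank : Module.finrank L (Fin 6 → F) = 2 := by
    have h := Module.finrank_mul_finrank F L (Fin 6 → F)
    rw [h3, Module.finrank_fintype_fun_eq_card, Fintype.card_fin] at h
    omega
  let b := basisOfLinearIndependentOfCardEqFinrank hli (by rw [Fintype.card_fin, hrank])
  have hb : ∀ i, b i = ![e₁, e₂] i := fun i => by
    simp [b, coe_basisOfLinearIndependentOfCardEqFinrank]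
  have hb0 : b 0 = e₁ := hb 0
  have hb1 : b 1 = e₂ := hb 1
  have hfb : ∀ (a c : L) (i j : Fin 2), f (a • b i) (c • b j) = if i = j then f ((τ c * a) • e₁) e₁ else 0 := by
    intro a c i j
    rw [hτ', smul_smul]
    fin_cases i <;> fin_cases j <;> simp [hb0, hb1, h12, h21, hself]
  have hrep : ∀ x, b.repr x 0 • b 0 + b.repr x 1 • b 1 = x := fun x => by
    have h := b.sum_repr x
    rwa [Fin.sum_univ_two] at h
  -- the semilinear involution
  let θ : (Fin 6 → F) →ₛₗ[σ.toRingHom] (Fin 6 → F) :=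
    { toFun := fun x => τ (b.repr x 1) • b 0 + τ (b.repr x 0) • b 1
      map_add' := fun x y => by
        simp only [map_add, Finsupp.add_apply, add_smul]; abel
      map_smul' := fun a x => by
        have h : ∀ i, b.repr (a • x) i = a • b.repr x i := fun i => by
          rw [← algebraMap_smul L a x, map_smul, Finsupp.smul_apply, algebraMap_smul]
        simp only [h, hτsmul, smul_assoc, smul_add]
        rfl }
  have hθ : ∀ a c : L, θ (a • b 0 + c • b 1) = τ c • b 0 + τ a • b 1 := fun a c => by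
    show τ (b.repr (a • b 0 + c • b 1) 1) • b 0 + τ (b.repr (a • b 0 + c • b 1) 0) • b 1 = _
    simp [map_add, map_smul, Finsupp.single_apply]
  have hθθ : ∀ x, θ (θ x) = x := fun x => by
    conv_rhs => rw [← hrep x]
    show θ (τ (b.repr x 1) • b 0 + τ (b.repr x 0) • b 1) = _
    rw [hθ, hττ, hττ]
  have halt : ∀ x, f x (θ x) = 0 := fun x => by
    rw [← hrep x, hθ, hf.add_left, hadd, hadd, hfb, hfb, hfb, hfb, if_pos rfl, if_pos rfl, if_neg (by decide),
      if_neg (by decide), hττ, hττ, add_zero, zero_add, mul_comm (b.repr x 0)]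
    linear_combination f ((b.repr x 1 * b.repr x 0) • e₁) e₁ * h2
  let C : Matrix (Fin 6) (Fin 6) F := Matrix.of fun i j => θ (Pi.single j 1) i
  have hC : ∀ v : Fin 6 → F, θ v = C *ᵥ (σ ∘ v) := fun v => by
    funext i
    conv_lhs => rw [pi_eq_sum_univ v, map_sum, Finset.sum_apply]
    simp only [Matrix.mulVec, dotProduct, Function.comp_apply]
    refine Finset.sum_congr rfl fun j _ => ?_
    rw [LinearMap.map_smulₛₗ, show (fun k => if j = k then (1 : F) else 0) = Pi.single j 1 by
      funext k; simp [Pi.single_apply, eq_comm]]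
    show σ (v j) * _ = C i j * σ (v j)
    rw [mul_comm]; rfl
  have hCC : C * C.map σ = 1 := by
    refine Matrix.ext_of_mulVec_single fun j => ?_
    have h := hθθ (Pi.single j 1)
    rw [hC, hC, show σ ∘ (C *ᵥ (σ ∘ (Pi.single j 1 : Fin 6 → F))) = C.map σ *ᵥ (σ ∘ σ ∘ (Pi.single j 1 : Fin 6 → F))
        from map_comp_mulVec σ.toRingHom C _,
      show σ ∘ σ ∘ (Pi.single j 1 : Fin 6 → F) = Pi.single j 1 from funext fun k => hσ.invol _, mulVec_mulVec] at h
    rw [one_mulVec]; exact h
  let B : Matrix (Fin 6) (Fin 6) F := C.map σ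
  have hB : ∀ x y, gf (RingHom.id F) B x y = f x (θ y) := fun x y => by
    rw [hfdef, hermForm_eq_gf hσ, hC, gf, gf, Matrix.one_mulVec, map_comp_mulVec σ.toRingHom,
      show σ.toRingHom ∘ (σ ∘ y) = y from funext fun k => hσ.invol _]
    rfl
  have hBB : B * B.map σ = (1 : F) • (1 : Matrix (Fin 6) (Fin 6) F) := by
    rw [one_smul, show B.map σ = C by ext i j; exact hσ.invol _]
    exact mul_eq_one_comm.1 hCC
  have hBdiag : ∀ i, B i i = 0 := fun i => by
    rw [← gf_single (RingHom.id F) B, hB, halt]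
  refine ⟨B, IsUnit.of_mul_eq_one _ (hBB.trans (one_smul _ _)), ?_, hBdiag, hBB, fun g hgu hgdet ψ hψ => ?_⟩
  · ext i j
    have h := halt (Pi.single i 1 + Pi.single j 1)
    rw [← hB, gf_add_left, gf_add_right, gf_add_right, gf_single, gf_single, gf_single, gf_single, hBdiag, hBdiag] at h
    rw [Matrix.transpose_apply, Matrix.smul_apply, smul_eq_mul]
    linear_combination h
  -- a semilinear isometry of determinant one
  set G := Matrix.toLin' (g : Matrix (Fin 6) (Fin 6) F) with hG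
  have hiso : ∀ u v, f (G u) (G v) = f u v := fun u v => by
    rw [hG, Matrix.toLin'_apply, Matrix.toLin'_apply]; exact hgu u v
  have hGk : ∀ (k : L) v, G (k • v) = ψ k • G v := fun k v => by
    rw [hG, Matrix.toLin'_apply, Matrix.toLin'_apply]; exact hψ k v
  have hψτ : ∀ k, ψ (τ k) = τ (ψ k) := fun k => huniq _ _ fun u v => by
    obtain ⟨u, rfl⟩ : ∃ u', G u' = u := ⟨((g⁻¹ : GL (Fin 6) F) : Matrix (Fin 6) (Fin 6) F) *ᵥ u, by
      rw [hG, Matrix.toLin'_apply, mulVec_mulVec, Units.mul_inv, one_mulVec]⟩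
    obtain ⟨v, rfl⟩ : ∃ v', G v' = v := ⟨((g⁻¹ : GL (Fin 6) F) : Matrix (Fin 6) (Fin 6) F) *ᵥ v, by
      rw [hG, Matrix.toLin'_apply, mulVec_mulVec, Units.mul_inv, one_mulVec]⟩
    rw [← hGk, hiso, ← hτ, ← hτ, ← hGk, hiso]
  set a := b.repr (G (b 0)) 0 with ha
  set c₁ := b.repr (G (b 0)) 1 with hc₁
  set b₁ := b.repr (G (b 1)) 0 with hb₁
  set d := b.repr (G (b 1)) 1 with hd
  have hG0 : G (b 0) = a • b 0 + c₁ • b 1 := (hrep _).symm
  have hG1 : G (b 1) = b₁ • b 0 + d • b 1 := (hrep _).symm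
  have key : ∀ (x₀ x₁ y₀ y₁ : L) (i j : Fin 2), G (b i) = x₀ • b 0 + x₁ • b 1 → G (b j) = y₀ • b 0 + y₁ • b 1 →
      ∀ k, P e₁ (τ y₀ * x₀ + τ y₁ * x₁) k = if i = j then f (ψ.symm k • e₁) e₁ else 0 := by
    intro x₀ x₁ y₀ y₁ i j hi hj k
    have h : f (k • G (b i)) (G (b j)) = f (ψ.symm k • b i) ((1 : L) • b j) := by
      rw [one_smul, ← hiso (ψ.symm k • b i) (b j), hGk, AlgEquiv.apply_symm_apply]
    rw [hfb, map_one, one_mul, hi, hj, smul_add, smul_smul, smul_smul, hf.add_left, hadd, hadd, hfb, hfb, hfb, hfb,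
      if_pos rfl, if_pos rfl, if_neg (by decide), if_neg (by decide), add_zero, zero_add] at h
    rw [← h, hP, mul_add, add_smul, hf.add_left]
    congr 3 <;> ring
  obtain ⟨ρ, hρ⟩ := hPsur e₁ he₁
    { toFun := fun k => f (ψ.symm k • e₁) e₁
      map_add' := fun u v => by rw [map_add, add_smul, hf.add_left]
      map_smul' := fun u v => by rw [map_smul, smul_assoc, hf.smul_left]; rfl }
  have hρ1 : τ a * a + τ c₁ * c₁ = ρ := hPinj e₁ he₁ (LinearMap.ext fun k => by
    rw [key a c₁ a c₁ 0 0 hG0 hG0 k, if_pos rfl, hρ]; rfl)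
  have hρ2 : τ b₁ * b₁ + τ d * d = ρ := hPinj e₁ he₁ (LinearMap.ext fun k => by
    rw [key b₁ d b₁ d 1 1 hG1 hG1 k, if_pos rfl, hρ]; rfl)
  have horth : τ a * b₁ + τ c₁ * d = 0 := hPinj e₁ he₁ (LinearMap.ext fun k => by
    rw [key b₁ d a c₁ 1 0 hG1 hG0 k, if_neg (by decide), map_zero]; rfl)
  have hρ0 : ρ ≠ 0 := fun h => by
    have h1 := LinearMap.congr_fun hρ 1
    rw [h, map_zero] at h1
    exact he₁ (by simpa using h1.symm)
  have hτρ : τ ρ = ρ := by
    rw [← hρ1, map_add, map_mul, map_mul, hττ, hττ, mul_comm a, mul_comm c₁]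
  have h2L : (2 : L) = 0 := by rw [← map_ofNat (algebraMap F L), h2, map_zero]
  set D := a * d - b₁ * c₁ with hD
  have e1 : D * τ c₁ = ρ * b₁ := by
    rw [hD, ← hρ1]; linear_combination a * horth - (a * τ a * b₁ + b₁ * c₁ * τ c₁) * h2L
  have e2 : D * τ a = ρ * d := by
    rw [hD, ← hρ1]; linear_combination -c₁ * horth
  have hDD : D * τ D = ρ * ρ := by
    refine mul_right_cancel₀ hρ0 ?_
    calc D * τ D * ρ = (D * τ a) * τ (D * τ a) + (D * τ c₁) * τ (D * τ c₁) := by
          rw [← hρ1, map_mul, map_mul, hττ, hττ]; ring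
      _ = ρ * ρ * ρ := by
          rw [e1, e2, map_mul, map_mul, hτρ]
          linear_combination (ρ * ρ) * hρ2
  have hD0 : D ≠ 0 := fun h => by
    rw [h, zero_mul] at hDD
    exact hρ0 (mul_self_eq_zero.1 hDD.symm)
  -- the determinant
  haveI : IsGalois F L := inferInstance
  have hnorm : ∀ x : L, algebraMap F L (Algebra.norm F x) = x ^ 21 := fun x => by
    rw [FiniteField.algebraMap_norm_eq_prod_pow, h3, Nat.card_eq_fintype_card, hF4]
    simp [Finset.prod_range_succ, ← pow_succ', ← pow_add]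
  let A : (Fin 6 → F) →ₗ[L] (Fin 6 → F) := b.constr L fun i => G (b i)
  let nb := IsGalois.normalBasis F L
  let bF := nb.smulTower b
  let π : Equiv.Perm (Gal(L/F) × Fin 2) := (Equiv.mulLeft ψ).prodCongr (Equiv.refl _)
  have hGA : G = A.restrictScalars F ∘ₗ (bF.equiv bF π).toLinearMap := bF.ext fun ⟨s, i⟩ => by
    rw [LinearMap.comp_apply, LinearEquiv.coe_coe, Module.Basis.equiv_apply, Module.Basis.smulTower_apply,
      Module.Basis.smulTower_apply, hGk, LinearMap.restrictScalars_apply, map_smul, Module.Basis.constr_basis]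
    congr 1
    show ψ (nb s) = nb (ψ * s)
    rw [IsGalois.normalBasis_apply, IsGalois.normalBasis_apply (e := ψ * s), AlgEquiv.mul_apply]
  have hdetA : LinearMap.det A = D := by
    rw [← LinearMap.det_toMatrix b, Matrix.det_fin_two]
    simp [LinearMap.toMatrix_apply, A, hD, ha, hc₁, hb₁, hd]
  have hND : Algebra.norm F D = 1 := by
    have h := congrArg LinearMap.det hGA
    rw [LinearMap.det_comp, LinearMap.det_restrictScalars, hdetA, det_basis_perm, hG, LinearMap.det_toLin', hgdet] at h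
    rcases Int.units_eq_one_or (Equiv.Perm.sign π) with hs | hs <;> rw [hs] at h <;> push_cast at h
    · rw [mul_one] at h; exact h.symm
    · rw [hneg, mul_one] at h; exact h.symm
  have hNρ : Algebra.norm F ρ = 1 := by
    have h0 : Algebra.norm F ρ ≠ 0 := Algebra.norm_ne_zero_iff.2 hρ0
    have hfix : σ (Algebra.norm F ρ) = Algebra.norm F ρ := by
      refine (algebraMap F L).injective ?_
      rw [← hτσ, hnorm, map_pow, hτρ]
    rw [four_sigma hF4 hf, sq] at hfix
    exact mul_left_cancel₀ h0 (hfix.trans (mul_one _).symm)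
  set lam := ρ / D with hlam
  have hl21 : lam ^ 21 = 1 := by
    rw [hlam, div_pow, ← hnorm, ← hnorm, hNρ, hND, map_one, div_one]
  have hlτ : lam * τ lam = 1 := by
    rw [hlam, map_div₀, hτρ, div_mul_div_comm, hDD, div_self (mul_ne_zero hρ0 hρ0)]
  have hl3 : lam ^ 3 = 1 := by
    let κ : L →ₐ[F] L :=
      { toFun := fun x => τ (x ^ 2)
        map_one' := by simp
        map_mul' := fun x y => by rw [mul_pow, map_mul]
        map_zero' := by simp
        map_add' := fun x y => by rw [← map_add]; congr 1; linear_combination (x * y) * h2L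
        commutes' := fun x => by rw [← map_pow, hτσ, ← four_sigma hF4 hf, hσ.invol] }
    obtain ⟨j, hj⟩ := (FiniteField.bijective_frobeniusAlgEquivOfAlgebraic_pow F L).2
      (AlgEquiv.ofBijective κ (Finite.injective_iff_bijective.1 κ.toRingHom.injective))
    have h := congrArg (fun e : L ≃ₐ[F] L => e lam) hj
    simp only [AlgEquiv.coe_pow, FiniteField.coe_frobeniusAlgEquivOfAlgebraic_iterate] at h
    change lam ^ (Fintype.card F ^ (j : ℕ)) = τ (lam ^ 2) at h
    rw [map_pow, hF4] at h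
    have h' : lam ^ (4 ^ (j : ℕ) + 2) = 1 := by rw [pow_add, h, ← mul_pow, mul_comm, hlτ, one_pow]
    have hj' : (j : ℕ) < 3 := lt_of_lt_of_eq j.2 h3
    have hg := pow_gcd_eq_one.2 ⟨h', hl21⟩
    interval_cases hjv : (j : ℕ) <;> simpa using hg
  obtain ⟨c₀, hc₀⟩ : ∃ c₀ : F, algebraMap F L c₀ = lam := by
    refine (IsGalois.mem_range_algebraMap_iff_fixed lam).2 fun s => ?_
    obtain ⟨j, rfl⟩ := (FiniteField.bijective_frobeniusAlgEquivOfAlgebraic_pow F L).2 s
    simp only [AlgEquiv.coe_pow, FiniteField.coe_frobeniusAlgEquivOfAlgebraic_iterate, hF4]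
    induction (j : ℕ) with
    | zero => simp
    | succ j ih => rw [pow_succ, pow_mul, ih, pow_succ, hl3, one_mul]
  have hc₀0 : c₀ ≠ 0 := fun h => by
    rw [h, map_zero] at hc₀
    rw [← hc₀, zero_mul] at hlτ
    exact zero_ne_one hlτ
  -- the involution intertwines up to the scalar
  have hDτd : D * τ d = ρ * a := by
    have h := congrArg τ e2
    rw [map_mul, map_mul, hττ, hτρ] at h
    refine mul_left_cancel₀ hρ0 ?_
    calc ρ * (D * τ d) = D * (ρ * τ d) := by ring
      _ = D * τ D * a := by rw [← h]; ring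
      _ = ρ * (ρ * a) := by rw [hDD]; ring
  have hDτb : D * τ b₁ = ρ * c₁ := by
    have h := congrArg τ e1
    rw [map_mul, map_mul, hττ, hτρ] at h
    refine mul_left_cancel₀ hρ0 ?_
    calc ρ * (D * τ b₁) = D * (ρ * τ b₁) := by ring
      _ = D * τ D * c₁ := by rw [← h]; ring
      _ = ρ * (ρ * c₁) := by rw [hDD]; ring
  have hl : ∀ {x y : L}, D * x = ρ * y → x = lam * y := fun {x y} h => by
    rw [hlam, div_mul_eq_mul_div, eq_div_iff hD0, ← h, mul_comm]
  have hGy : ∀ u v : L, G (u • b 0 + v • b 1) = (ψ u * a + ψ v * b₁) • b 0 + (ψ u * c₁ + ψ v * d) • b 1 := fun u v => by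
    rw [map_add, hGk, hGk, hG0, hG1]
    module
  have hθG : ∀ y, θ (G y) = c₀ • G (θ y) := fun y => by
    conv_lhs => rw [← hrep y, hGy, hθ]
    conv_rhs => rw [← hrep y, hθ, hGy, hψτ, hψτ, ← algebraMap_smul L c₀, hc₀, smul_add, smul_smul, smul_smul]
    rw [map_add, map_add, map_mul, map_mul, map_mul, map_mul, hl e1, hl e2, hl hDτd, hl hDτb]
    congr 2 <;> ring
  refine ⟨Units.mk0 (σ c₀) ((map_ne_zero_iff _ σ.injective).2 hc₀0), fun u v => ?_⟩
  rw [hB, hB, ← Matrix.toLin'_apply, ← Matrix.toLin'_apply, ← hG, hθG, hsr, hiso, Units.val_mk0]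

/-- Maximal subgroups normalising a cubic field are subfield groups. -/
theorem exists_subfield_of_field {H : Subgroup (GL (Fin 6) F)} {q : ℕ} (hF : Fintype.card F = q ^ 2) (hq : q = 2)
    (hH : Cfsg.Geo.IsMaximalIn (su 6 F q) H) {K : Subalgebra F (Matrix (Fin 6) (Fin 6) F)}
    (hK : Cfsg.Geo.IsFieldSubalgebra 3 K) (hadj : Cfsg.Geo.IsAdjointClosedFor (Cfsg.hermForm 6 F q) K)
    (hle : H ≤ Cfsg.Geo.subalgebraNormalizer K) :
    ∃ (F₀ : Subfield F) (P : GL (Fin 6) F) (ζ : F), Fintype.card F = Nat.card F₀ ^ 2 ∧ ζ ≠ 0 ∧ ζ + ζ ^ q = 0 ∧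
      Cfsg.Geo.IsFormRationalStructure (Cfsg.hermForm 6 F q) F₀ ζ P ∧
      (∀ u : Fin 6 → F, (∀ i, u i ∈ F₀) →
        Cfsg.hermForm 6 F q ((P : Matrix (Fin 6) (Fin 6) F) *ᵥ u) ((P : Matrix (Fin 6) (Fin 6) F) *ᵥ u) = 0) ∧
      H = Cfsg.Geo.subfieldSubgroup F₀ P ⊓ su 6 F q := by
  classical
  subst hq
  obtain ⟨σ, hσ⟩ := exists_qAut hF
  haveI : Nontrivial K := ⟨⟨0, 1, fun h => zero_ne_one (α := Matrix (Fin 6) (Fin 6) F) (congrArg Subtype.val h)⟩⟩
  have hfield : IsField K :=
    { exists_pair_ne := ⟨0, 1, zero_ne_one⟩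
      mul_comm := fun x y => Subtype.ext (hK.comm x x.2 y y.2)
      mul_inv_cancel := fun {x} hx => by
        obtain ⟨y, hy, h⟩ := hK.inv x x.2 fun h => hx (Subtype.ext h)
        exact ⟨⟨y, hy⟩, Subtype.ext h⟩ }
  let act : K →+* Module.End F (Fin 6 → F) :=
    (Matrix.toLinAlgEquiv' : Matrix (Fin 6) (Fin 6) F ≃ₐ[F] Module.End F (Fin 6 → F)).toRingEquiv.toRingHom.comp
      K.val.toRingHom
  letI : Module K (Fin 6 → F) := Module.compHom _ act
  have hsmul : ∀ (k : K) (v : Fin 6 → F), k • v = (k : Matrix (Fin 6) (Fin 6) F) *ᵥ v := fun k v => by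
    change act k v = _
    simp [act, Matrix.toLinAlgEquiv'_apply]
  haveI : IsScalarTower F K (Fin 6 → F) := ⟨fun c k v => by
    rw [hsmul, hsmul]
    exact Matrix.smul_mulVec c (k : Matrix (Fin 6) (Fin 6) F) v⟩
  have hf : Cfsg.Geo.IsUnitaryForm σ (Cfsg.hermForm 6 F 2) :=
    CfsgLib.Transvec.Unitary.isUnitaryForm_hermForm hσ.apply hσ.invol hσ.ne
  choose ad had hadj' using hadj
  let t : K → K := fun k => ⟨ad k k.2, had k k.2⟩
  have ht : ∀ (k : K) u v, Cfsg.hermForm 6 F 2 (k • u) v = Cfsg.hermForm 6 F 2 u (t k • v) := fun k u v => by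
    rw [hsmul, hsmul]; exact hadj' k k.2 u v
  have hext : ∀ x y : K, (∀ u v, Cfsg.hermForm 6 F 2 u (x • v) = Cfsg.hermForm 6 F 2 u (y • v)) → x = y := by
    intro x y h
    refine Subtype.ext (Matrix.ext_of_mulVec_single fun j => ?_)
    rw [← hsmul, ← hsmul]
    by_contra hne
    obtain ⟨u, hu⟩ := (hf.nondegenerate _ (sub_ne_zero.2 hne)).1
    refine hu ?_
    have h1 := CfsgLib.Transvec.Unitary.add_right' hf u (x • Pi.single j 1 - y • Pi.single j 1) (y • Pi.single j (1 : F))
    rw [sub_add_cancel, h] at h1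
    linear_combination -h1
  have htt : ∀ k, t (t k) = k := fun k => hext _ _ fun u v => by rw [← ht, hf.herm, ← ht, ← hf.herm]
  let τ : K ≃+* K :=
    { toFun := t
      invFun := t
      left_inv := htt
      right_inv := htt
      map_mul' := fun x y => hext _ _ fun u v => by
        rw [← ht, hsmul, hsmul, MulMemClass.coe_mul, MulMemClass.coe_mul, hK.comm _ (had x x.2) _ (had y y.2),
          ← mulVec_mulVec, ← mulVec_mulVec, hadj' x x.2, hadj' y y.2]
      map_add' := fun x y => hext _ _ fun u v => by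
        rw [← ht, hsmul, hsmul, AddMemClass.coe_add, AddMemClass.coe_add, add_mulVec, add_mulVec, hf.add_left,
          CfsgLib.Transvec.Unitary.add_right' hf, hadj' x x.2, hadj' y y.2] }
  obtain ⟨B, hB, hBt, hdiag, hBB, hsim⟩ := @field_alternating F _ _ σ hσ K hfield.toField (Fintype.ofFinite K)
    (inferInstance : Algebra F K) (inferInstance : Module K (Fin 6 → F)) (inferInstance : IsScalarTower F K (Fin 6 → F))
    hK.finrank_eq τ ht
  have hconj : ∀ h ∈ H, h ∈ Cfsg.Geo.similarityGroup (gf (RingHom.id F) B) := fun h hh => by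
    let ψ₀ : K →ₐ[F] K :=
      { toFun := fun k => ⟨(h : Matrix (Fin 6) (Fin 6) F) * k * ((h⁻¹ : GL (Fin 6) F) : Matrix (Fin 6) (Fin 6) F),
          (hle hh k).1 k.2⟩
        map_one' := Subtype.ext (by simp)
        map_mul' := fun x y => Subtype.ext (by simp [mul_assoc])
        map_zero' := Subtype.ext (by simp)
        map_add' := fun x y => Subtype.ext (by simp [mul_add, add_mul])
        commutes' := fun c => Subtype.ext (by simp [Algebra.algebraMap_eq_smul_one, mul_assoc]) }
    have hinj : Function.Injective ψ₀ := fun a b hab => Subtype.ext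
      (h.isUnit.mul_left_cancel (h⁻¹.isUnit.mul_right_cancel (congrArg Subtype.val hab)))
    refine hsim h (hH.1.le hh).1 ((CfsgLib.Transvec.mem_specialLinear_iff h).1 (hH.1.le hh).2)
      (AlgEquiv.ofBijective ψ₀ (Finite.injective_iff_bijective.1 hinj)) fun k v => ?_
    refine ((congrArg ((h : Matrix (Fin 6) (Fin 6) F) *ᵥ ·) (hsmul k v)).trans ?_).trans
      (hsmul (ψ₀ k) ((h : Matrix (Fin 6) (Fin 6) F) *ᵥ v)).symm
    show _ = ((h : Matrix (Fin 6) (Fin 6) F) * (k : Matrix (Fin 6) (Fin 6) F) * ((h⁻¹ : GL (Fin 6) F) : Matrix (Fin 6) (Fin 6) F)) *ᵥ _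
    simp only [mulVec_mulVec, mul_assoc, Units.inv_mul, mul_one]
  rcases subfield_of_bilinear hσ (by norm_num) (hH.1.le.trans inf_le_left) hB hBt (Or.inr rfl) (fun _ => hdiag) hBB
      hconj with ⟨F₀, P, ζ, -, h2, h3, h4, h5, h6, h⟩ | ⟨-, -, hodd, -⟩
  · exact ⟨F₀, P, ζ, h2, h3, h4, h5, h6, eq_subfield (by norm_num) hF hH le_rfl h2 h⟩
  · exact absurd hodd (by decide)

end CfsgLib.AschUList
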