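import Cfsg.Agent.Lib.AschUList.Main
import Cfsg.Agent.Lib.AschUList.Two
import Cfsg.Agent.Lib.Classical.SmallIso.QuartField

/-!
# Frames of the six-dimensional unitary space over four elements
-/

set_option autoImplicit false
set_option maxHeartbeats 1000000

namespace CfsgLib.AschUList

open Matrix CfsgLib.Transvec CfsgLib.Transvec.Unitary CfsgLib.Techniques.AschPrime CfsgLib.Techniques.AschPrimeU
open CfsgLib.Classical.SmallIso (W4)
open scoped MatrixGroups

namespace SixLines

variable {R : Type*} [CommRing R] [DecidableEq R]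

/-- The coordinates of the distinguished isotropic points: two non-zero entries, or six with product one. -/
abbrev Good (a : Fin 6 → R) : Prop :=
  (Finset.univ.filter fun i => a i ≠ 0).card = 2 ∨ ((∀ i, a i ≠ 0) ∧ ∏ i, a i = 1)

/-- The translation by the sum of the entries. -/
def shift (a : Fin 6 → R) : Fin 6 → R := fun i => a i + ∑ j, a j

theorem w4_last : ∀ a b c d e : W4, a ≠ 0 → b ≠ 0 → c ≠ 0 → d ≠ 0 → e ≠ 0 →
    Good (shift ![a, b, c, d, e, (a * b * c * d * e) * (a * b * c * d * e)]) := by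
  decide +kernel

theorem w4_pair : ∀ a b : W4, a ≠ 0 → b ≠ 0 → a ≠ b →
    a + (a + b) ≠ 0 ∧ b + (a + b) ≠ 0 ∧ a + b ≠ 0 ∧ (a + (a + b)) * (b + (a + b)) * (a + b) ^ 4 = 1 := by
  decide +kernel

variable {F : Type*} [Field F] [DecidableEq F]

theorem good_map {φ : W4 →+* F} (hφ : Function.Injective φ) (a : Fin 6 → W4) : Good (φ ∘ a) ↔ Good a := by
  have h : ∀ i, φ (a i) ≠ 0 ↔ a i ≠ 0 := fun i => (map_ne_zero_iff φ hφ)
  simp only [Good, Function.comp_apply, h, ← map_prod, map_eq_one_iff φ hφ]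

theorem shift_map {φ : W4 →+* F} (a : Fin 6 → W4) : shift (φ ∘ a) = φ ∘ shift a := by
  funext i; simp [shift, map_sum]

theorem good_shift [Fintype F] (h4 : Fintype.card F = 4) {a : Fin 6 → F} (ha : Good a) : Good (shift a) := by
  obtain ⟨φ, hφ, -⟩ := W4.exists_hom h4
  have hsur : Function.Surjective φ :=
    ((Fintype.bijective_iff_injective_and_card φ).2 ⟨hφ, by rw [h4]; rfl⟩).2
  obtain ⟨x, rfl⟩ : ∃ x : Fin 6 → W4, φ ∘ x = a :=
    ⟨fun i => (hsur (a i)).choose, funext fun i => (hsur (a i)).choose_spec⟩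
  rw [shift_map, good_map hφ]
  rw [good_map hφ] at ha
  rcases ha with h2 | ⟨hne, hprod⟩
  · obtain ⟨i, j, hij, hset⟩ := Finset.card_eq_two.1 h2
    have hmem : ∀ k, x k ≠ 0 ↔ k = i ∨ k = j := fun k => by
      have := congrArg (fun s => k ∈ s) hset
      simpa using this
    have hsum : ∑ k, x k = x i + x j := by
      rw [← Finset.sum_pair hij, ← hset, Finset.sum_filter_ne_zero]
    by_cases heq : x i = x j
    · have : shift x = x := by
        funext k
        rw [shift, hsum, heq, show x j + x j = 0 from (by decide : ∀ y : W4, y + y = 0) _, add_zero]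
      rw [this]; exact Or.inl h2
    obtain ⟨p1, p2, p3, p4⟩ := w4_pair _ _ ((hmem i).2 (Or.inl rfl)) ((hmem j).2 (Or.inr rfl)) heq
    have hrest : ∀ k, k ≠ i → k ≠ j → shift x k = x i + x j := fun k hi hj => by
      have h0 : x k = 0 := by
        by_contra h; rcases (hmem k).1 h with h' | h' <;> contradiction
      rw [shift, hsum, h0, zero_add]
    refine Or.inr ⟨fun k => ?_, ?_⟩
    · by_cases hi : k = i
      · subst hi; rw [shift, hsum]; exact p1
      by_cases hj : k = j
      · subst hj; rw [shift, hsum]; exact p2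
      rw [hrest k hi hj]; exact p3
    · rw [← Finset.prod_mul_prod_compl ({i, j} : Finset (Fin 6)), Finset.prod_pair hij,
        Finset.prod_congr rfl (fun k hk => hrest k (fun h => by simp [h] at hk) (fun h => by simp [h] at hk)),
        Finset.prod_const, Finset.card_compl, Finset.card_pair hij, Fintype.card_fin]
      simp only [shift, hsum]
      exact p4
  · have hcube : ∀ y : W4, y ≠ 0 → y * y * y = 1 := by decide
    have hlast : x 5 = (x 0 * x 1 * x 2 * x 3 * x 4) * (x 0 * x 1 * x 2 * x 3 * x 4) := by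
      have h3 := hcube (x 5) (hne 5)
      rw [Fin.prod_univ_six] at hprod
      calc x 5 = x 5 * (x 0 * x 1 * x 2 * x 3 * x 4 * x 5) * (x 0 * x 1 * x 2 * x 3 * x 4 * x 5) := by
            rw [hprod, mul_one, mul_one]
        _ = (x 5 * x 5 * x 5) * ((x 0 * x 1 * x 2 * x 3 * x 4) * (x 0 * x 1 * x 2 * x 3 * x 4)) := by ring
        _ = _ := by rw [h3, one_mul]
    have hx : x = ![x 0, x 1, x 2, x 3, x 4, (x 0 * x 1 * x 2 * x 3 * x 4) * (x 0 * x 1 * x 2 * x 3 * x 4)] := by
      funext k; fin_cases k <;> first | rfl | exact hlast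
    rw [hx]
    exact w4_last _ _ _ _ _ (hne 0) (hne 1) (hne 2) (hne 3) (hne 4)

theorem good_scale {a a' : Fin 6 → F} {π : Equiv.Perm (Fin 6)} {c : Fin 6 → F} (hc : ∀ i, c i ≠ 0)
    (hP : ∏ i, c i = 1) (h : ∀ i, a' (π i) = c i * a i) (ha : Good a) : Good a' := by
  rcases ha with h2 | ⟨hne, hprod⟩
  · refine Or.inl ((Finset.card_equiv π fun i => ?_).symm.trans h2)
    simp [h, hc]
  · refine Or.inr ⟨fun i => ?_, ?_⟩
    · obtain ⟨k, rfl⟩ := π.surjective i
      rw [h]; exact mul_ne_zero (hc k) (hne k)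
    · rw [← Equiv.prod_comp π a', Finset.prod_congr rfl fun i _ => h i, Finset.prod_mul_distrib, hP, hprod, one_mul]

end SixLines

open SixLines

variable {F : Type*} [Field F] [Fintype F] {q : ℕ}

/-- Over four elements the monomial groups of degree six are not maximal. -/
theorem six_lines_not_maximal (hF : Fintype.card F = q ^ 2) (hq : q = 2) {H : Subgroup (GL (Fin 6) F)}
    (hH : Cfsg.Geo.IsMaximalIn (su 6 F q) H) {D : Fin 6 → Submodule F (Fin 6 → F)}
    (hD : Cfsg.Geo.IsNondegenerateMDecomposition (Cfsg.hermForm 6 F q) 1 D)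
    (hle : H ≤ Cfsg.Geo.decompositionStabilizer D) : False := by
  classical
  subst hq
  obtain ⟨σ, hσ, hinv, hne⟩ := exists_frob hF
  set f := Cfsg.hermForm 6 F 2 with hfdef
  have hf : Cfsg.Geo.IsUnitaryForm σ f := isUnitaryForm_hermForm hσ hinv hne
  have hT : ∀ v, f v v = 0 → ∀ c, c + σ c = 0 → uT f v c ∈ su 6 F 2 := fun v hv c hc =>
    uT_mem_SU hσ hinv hne hv hc
  have h4 : Fintype.card F = 4 := hF
  have h2 : (2 : F) = 0 := by
    have h := FiniteField.cast_card_eq_zero F
    rw [h4] at h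
    push_cast at h
    exact mul_self_eq_zero.1 (by linear_combination h)
  have hneg : (-1 : F) = 1 := by linear_combination -h2
  have haa : ∀ y : F, y + y = 0 := fun y => by linear_combination y * h2
  have hc1 : (1 : F) + σ 1 = 0 := by rw [map_one]; exact haa 1
  have hsumL : ∀ (s : Finset (Fin 6)) (g : Fin 6 → Fin 6 → F) v, f (∑ j ∈ s, g j) v = ∑ j ∈ s, f (g j) v := by
    intro s g v
    induction s using Finset.induction with
    | empty => simpa using hf.smul_left 0 0 v
    | insert j s hj ih => rw [Finset.sum_insert hj, Finset.sum_insert hj, hf.add_left, ih]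
  have hsumR : ∀ (s : Finset (Fin 6)) (g : Fin 6 → Fin 6 → F) v, f v (∑ j ∈ s, g j) = ∑ j ∈ s, f v (g j) := by
    intro s g v
    rw [hf.herm, hsumL, map_sum]
    exact Finset.sum_congr rfl fun j _ => (hf.herm _ _).symm
  -- an orthonormal basis adapted to the frame
  have hu : ∀ i, ∃ u ∈ D i, f u u = 1 := fun i => by
    obtain ⟨x, hx, hxx⟩ := exists_aniso hf (fun h => by
      have := hD.decomp.finrank_eq i; rw [h, finrank_bot] at this; exact zero_ne_one this)
      fun w hw hw0 => (hD.nondegenerate i w hw hw0).1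
    exact ⟨x, hx, self_eq_one h4 hf hxx⟩
  choose u hu hu1 using hu
  have huu : ∀ i j, f (u i) (u j) = if i = j then 1 else 0 := fun i j => by
    by_cases h : i = j
    · subst h; rw [if_pos rfl, hu1]
    · rw [if_neg h, hD.orthogonal i j h _ (hu i) _ (hu j)]
  have hline : ∀ i, ∀ x ∈ D i, ∃ c : F, c • u i = x := fun i x hx => by
    have hu0 : (⟨u i, hu i⟩ : D i) ≠ 0 := fun h => by
      have h1 := hu1 i
      rw [show u i = 0 from congrArg Subtype.val h] at h1
      exact zero_ne_one ((show f 0 0 = 0 by simpa using hf.smul_left 0 0 0).symm.trans h1)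
    obtain ⟨c, hc⟩ := exists_smul_eq_of_finrank_eq_one (hD.decomp.finrank_eq i) hu0 ⟨x, hx⟩
    exact ⟨c, congrArg Subtype.val hc⟩
  let co : (Fin 6 → F) → Fin 6 → F := fun x i => f x (u i)
  have hco : ∀ (a : Fin 6 → F), co (∑ j, a j • u j) = a := fun a => by
    funext i
    simp [co, hsumL, hf.smul_left, huu]
  have hmulv : ∀ (g h : GL (Fin 6) F) (x : Fin 6 → F), ((g * h : GL (Fin 6) F) : Matrix (Fin 6) (Fin 6) F) *ᵥ x =
      (g : Matrix (Fin 6) (Fin 6) F) *ᵥ ((h : Matrix (Fin 6) (Fin 6) F) *ᵥ x) := fun g h x =>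
    CfsgLib.Transvec.mul_mulVec g h x
  -- the overgroup
  let K₀ : Subgroup (GL (Fin 6) F) :=
    { carrier := {g | ∀ x, Good (co ((g : Matrix (Fin 6) (Fin 6) F) *ᵥ x)) ↔ Good (co x)}
      one_mem' := fun x => by rw [Units.val_one, one_mulVec]
      mul_mem' := fun {a b} ha hb x => by rw [hmulv, ha, hb]
      inv_mem' := fun {a} ha x => by
        rw [← ha, mulVec_mulVec, Units.mul_inv, one_mulVec] }
  -- the monomial group preserves the points
  have hmono : ∀ g ∈ H, ∀ x, Good (co x) → Good (co ((g : Matrix (Fin 6) (Fin 6) F) *ᵥ x)) := by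
    intro g hg x hx
    obtain ⟨π, hπ⟩ := hle hg
    have hiso : ∀ a b, f ((g : Matrix (Fin 6) (Fin 6) F) *ᵥ a) ((g : Matrix (Fin 6) (Fin 6) F) *ᵥ b) = f a b :=
      fun a b => (hH.1.le hg).1 a b
    have hc : ∀ j, ∃ c : F, (g : Matrix (Fin 6) (Fin 6) F) *ᵥ u j = c • u (π j) := fun j => by
      obtain ⟨c, hc⟩ := hline (π j) _ (hπ j ▸ ⟨u j, hu j, Matrix.toLin'_apply _ _⟩ :
        (g : Matrix (Fin 6) (Fin 6) F) *ᵥ u j ∈ D (π j))
      exact ⟨c, hc.symm⟩
    choose c hc using hc
    have hn : ∀ j, c j * σ (c j) = 1 := fun j => by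
      have h := hiso (u j) (u j)
      rw [hc, hf.smul_left, smul_right' hf, hu1, hu1, mul_one] at h
      exact h
    have hc0 : ∀ j, c j ≠ 0 := fun j => left_ne_zero_of_mul_eq_one (hn j)
    refine good_scale (π := π) hc0 ?_ (fun i => ?_) hx
    · let M : Matrix (Fin 6) (Fin 6) F := Matrix.of fun i j => u j i
      have hM : M.det ≠ 0 := by
        refine (Matrix.isUnit_iff_isUnit_det M).1 ?_ |>.ne_zero
        rw [← Matrix.linearIndependent_cols_iff_isUnit]
        refine linearIndependent_iff'.2 fun s a ha i hi => ?_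
        have h := congrArg (fun y => f y (u i)) ha
        simp only [hsumL, hf.smul_left] at h
        rw [show f 0 (u i) = 0 by simpa using hf.smul_left 0 0 (u i),
          Finset.sum_eq_single i (fun b _ hb => by
            show a b * f (u b) (u i) = 0
            rw [huu, if_neg hb, mul_zero]) (fun h' => absurd hi h')] at h
        rw [show M.col i = u i from rfl, hu1, mul_one] at h
        exact h
      have hgM : (g : Matrix (Fin 6) (Fin 6) F) * M = Matrix.of fun i j => c j * M.submatrix id π i j :=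
        Matrix.ext fun i j => congrFun (hc j) i
      have h := congrArg Matrix.det hgM
      rw [det_mul, (CfsgLib.Transvec.mem_specialLinear_iff g).1 (hH.1.le hg).2, one_mul, det_mul_row,
        det_permute'] at h
      rcases Int.units_eq_one_or (Equiv.Perm.sign π) with hs | hs <;> rw [hs] at h <;> push_cast at h
      · exact mul_right_cancel₀ hM (by rw [one_mul]; linear_combination -h)
      · rw [hneg] at h; exact mul_right_cancel₀ hM (by rw [one_mul]; linear_combination -h)
    · show f ((g : Matrix (Fin 6) (Fin 6) F) *ᵥ x) (u (π i)) = c i * f x (u i)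
      rw [← hiso x (u i), hc, smul_right' hf, ← mul_assoc, hn, one_mul]
  have hHK : H ≤ K₀ ⊓ su 6 F 2 := fun g hg => ⟨fun x => ⟨fun h => by
    have h' := hmono g⁻¹ (H.inv_mem hg) _ h
    rwa [← hmulv, inv_mul_cancel, Units.val_one, one_mulVec] at h', hmono g hg x⟩, hH.1.le hg⟩
  -- the transvection at the all-ones vector
  have hv : f (∑ j, u j) (∑ j, u j) = 0 := by
    simp only [hsumL, hsumR, huu, Finset.sum_ite_eq, Finset.mem_univ, if_true]
    simp only [Finset.sum_const, Finset.card_univ, Fintype.card_fin, nsmul_eq_mul, mul_one]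
    push_cast
    linear_combination 3 * h2
  set t := uT f (∑ j, u j) 1 with ht
  have htm : ∀ x, co ((t : Matrix (Fin 6) (Fin 6) F) *ᵥ x) = shift (co x) := fun x => by
    funext i
    simp only [co, shift, ht, uT_mulVec hf hv, hf.add_left, hf.smul_left, hsumR, hsumL, huu, Finset.sum_ite_eq',
      Finset.mem_univ, if_true, one_mul, mul_one]
  have htt : ∀ a : Fin 6 → F, shift (shift a) = a := fun a => by
    funext i
    simp only [shift, Finset.sum_add_distrib, Finset.sum_const, Finset.card_univ, Fintype.card_fin, nsmul_eq_mul]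
    push_cast
    linear_combination 4 * (∑ j, a j) * h2
  have htK : t ∈ K₀ ⊓ su 6 F 2 := ⟨fun x => ⟨fun h => by
    have := good_shift h4 h
    rwa [← htm, htm, htm, htt] at this, fun h => by rw [htm]; exact good_shift h4 h⟩, hT _ hv 1 hc1⟩
  rcases hH.2 _ hHK inf_le_right with h | h
  · obtain ⟨π, hπ⟩ := hle (h ▸ htK : t ∈ H)
    have hm : (t : Matrix (Fin 6) (Fin 6) F) *ᵥ u 0 ∈ D (π 0) := hπ 0 ▸ ⟨u 0, hu 0, Matrix.toLin'_apply _ _⟩
    obtain ⟨k, hk0, hkπ⟩ : ∃ k : Fin 6, k ≠ 0 ∧ π 0 ≠ k := by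
      generalize π 0 = p
      revert p; decide
    have h1 : co ((t : Matrix (Fin 6) (Fin 6) F) *ᵥ u 0) k = 0 := hD.orthogonal _ _ hkπ _ hm _ (hu k)
    rw [htm] at h1
    simp [shift, co, huu, Ne.symm hk0] at h1
  · let a₁ : Fin 6 → F := ![1, 1, 1, 1, 0, 0]
    let b₁ : Fin 6 → F := ![1, 0, 0, 0, 1, 0]
    set v := ∑ j, a₁ j • u j with hvdef
    have hfr : ∀ x, f x v = ∑ j, σ (a₁ j) * co x j := fun x => by
      simp [hvdef, hsumR, smul_right' hf, co]
    have hv' : f v v = 0 := by
      rw [hfr, hco]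
      simp [a₁, Fin.sum_univ_six]
      linear_combination 2 * h2
    have hmem : uT f v 1 ∈ K₀ ⊓ su 6 F 2 := h.symm ▸ hT _ hv' 1 hc1
    have hb : Good (co (∑ j, b₁ j • u j)) := by
      rw [hco]
      exact Or.inl (by
        rw [show (Finset.univ.filter fun i => b₁ i ≠ 0) = {0, 4} by
          ext i; fin_cases i <;> simp [b₁]]
        rfl)
    have hb' := (hmem.1 _).2 hb
    have hval : co ((uT f v 1 : Matrix (Fin 6) (Fin 6) F) *ᵥ ∑ j, b₁ j • u j) = ![0, 1, 1, 1, 1, 0] := by
      funext i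
      have h1 : co ((uT f v 1 : Matrix (Fin 6) (Fin 6) F) *ᵥ ∑ j, b₁ j • u j) i =
          co (∑ j, b₁ j • u j) i + (1 * f (∑ j, b₁ j • u j) v) * co v i := by
        simp only [co, uT_mulVec hf hv', hf.add_left, hf.smul_left]
      rw [h1, hfr, hco, show co v = a₁ from hco a₁]
      fin_cases i <;> simp [a₁, b₁, Fin.sum_univ_six, haa]
    rw [hval] at hb'
    rcases hb' with hb' | ⟨hb', -⟩
    · rw [show (Finset.univ.filter fun i => (![0, 1, 1, 1, 1, 0] : Fin 6 → F) i ≠ 0) = {1, 2, 3, 4} by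
        ext i; fin_cases i <;> simp] at hb'
      exact absurd hb' (by decide)
    · exact hb' 0 (by simp)

end CfsgLib.AschUList
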