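import Cfsg.Agent.Lib.AschUList.Main
import Cfsg.Agent.Lib.AschUList.Two

/-!
# Members of the unitary classes over four elements contained in other members
-/

set_option autoImplicit false

namespace CfsgLib.AschUList

open Matrix CfsgLib.Transvec CfsgLib.Transvec.Unitary CfsgLib.Techniques.AschPrime CfsgLib.Techniques.AschPrimeU
open scoped MatrixGroups

variable {F : Type*} [Field F] [Fintype F] {q n : ℕ}

theorem exists_lines_of_planes (hn : 4 ≤ n) (hF : Fintype.card F = q ^ 2) (hq : q = 2) {H : Subgroup (GL (Fin n) F)}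
    (hH : Cfsg.Geo.IsMaximalIn (su n F q) H) {t : ℕ} (htn : t * 2 = n) {D : Fin t → Submodule F (Fin n → F)}
    (hD : Cfsg.Geo.IsNondegenerateMDecomposition (Cfsg.hermForm n F q) 2 D)
    (hle : H ≤ Cfsg.Geo.decompositionStabilizer D) :
    ∃ E : Fin n → Submodule F (Fin n → F), Cfsg.Geo.IsNondegenerateMDecomposition (Cfsg.hermForm n F q) 1 E ∧
      H = Cfsg.Geo.decompositionStabilizer E ⊓ su n F q := by
  obtain ⟨σ, hσ, hinv, hne⟩ := exists_frob hF
  subst htn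
  obtain ⟨E, hE, hstab⟩ := planes_refine (by rw [hF, hq]; rfl) (isUnitaryForm_hermForm hσ hinv hne) hD
  exact ⟨E, hE, eq_lines hn hF hH hE fun h hh => hstab h (hle hh) (hH.1.le hh).1⟩

theorem exists_blocks_of_tensor (hn : 4 ≤ n) (hF : Fintype.card F = q ^ 2) (hq : q = 2) {H : Subgroup (GL (Fin n) F)}
    (hH : Cfsg.Geo.IsMaximalIn (su n F q) H) {b : ℕ} (hb : 2 ≤ b) {e : Fin n ≃ Fin 2 × Fin b} {P : GL (Fin n) F}
    {f₁ : (Fin 2 → F) → (Fin 2 → F) → F} {f₂ : (Fin b → F) → (Fin b → F) → F}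
    (hf₁ : Cfsg.Geo.IsUnitaryFormPow q f₁) (hf₂ : Cfsg.Geo.IsUnitaryFormPow q f₂)
    (hP : Cfsg.Geo.IsTensorFormStructure (fun x : F => x ^ q) (Cfsg.hermForm n F q) f₁ f₂ e P)
    (hle : H ≤ Cfsg.Geo.tensorProductSubgroup 2 b e P) :
    ∃ E : Fin 2 → Submodule F (Fin n → F), Cfsg.Geo.IsNondegenerateMDecomposition (Cfsg.hermForm n F q) b E ∧
      H = Cfsg.Geo.decompositionStabilizer E ⊓ su n F q := by
  obtain ⟨σ, hσ, hinv, hne⟩ := exists_frob hF
  have hσ' : (fun x : F => x ^ q) = ⇑σ := funext fun x => (hσ x).symm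
  rw [hσ'] at hP
  obtain ⟨E, hE, hstab⟩ := tensor_two_refine (by rw [hF, hq]; rfl) (isUnitaryForm_hermForm hσ hinv hne) (by omega)
    ⟨hne, hinv, hf₁.add_left, hf₁.smul_left, fun v w => by rw [hσ, ← hf₁.herm], hf₁.nondegenerate⟩
    ⟨hne, hinv, hf₂.add_left, hf₂.smul_left, fun v w => by rw [hσ, ← hf₂.herm], hf₂.nondegenerate⟩ hP
  exact ⟨E, hE, eq_blocks hn hF hH hb hE.decomp fun h hh => hstab h (hle hh) (hH.1.le hh).1⟩

end CfsgLib.AschUList
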